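import Cfsg.Agent.H658.TwoB.CentIn
import Cfsg.Agent.H253.TwoB.Link
import Cfsg.Agent.H692.QS.Fix
import Cfsg.Agent.H820.Par.Base
import Cfsg.Agent.BiChar.SmallCard

/-!
# 2.B: the elements of `C(t)`, `t` of class 2A in the Monster, in `C(z) ∩ C(t)` (helper658, S2491/S2492)

* `two_elt` : the 2-elements of `C(t)` are commutators in `C(t)`;
* `three_elt` : `x` of order 3 commuting with `t` and with a suitable conjugate of `z`: `x`, `x t` are commutators in `C(t)`.
The inputs are hypotheses: `H` (the table for `Co2`), `H23`, `Hc` (vectors of type 4), `CP` (conjugacy of pairs).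
-/

set_option autoImplicit false

namespace Cfsg.Agent.H658.TwoB

open Cfsg Cfsg.Spor
open Cfsg.Agent.H253.TwoB (F23t f23h_of exists_w)
open Cfsg.Agent.H612.CoT.Gens (tt)
open Cfsg.Agent.MonsterU.Ch (Chart)
open Cfsg.Agent.MonsterU.Lam2 (L2 IsType bf cl)
open Cfsg.Agent.H819.TypeTwo (CC CC_z CC_t exists_be toC card_PP jCo2 jCo2_fix type_leechU)
open Cfsg.Agent.LThreeMB (fr PP)
open Cfsg.Agent.BpSpor.MBigModel (MG zz pi)
open Cfsg.Agent.H820.Par (QQ eta chart)
open Subgroup (centralizer mem_centralizer_singleton_iff)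

/-- the table for `Co2` -/
def HTab : Prop := ∀ l : Spor.Co2, l ≠ 1 → ((∃ k, orderOf l = 2 ^ k) ∨ orderOf l = 3) → F23t (tt 0) (tt 1) l

/-- elements of order 23 -/
def H23 : Prop := ∀ x v : L2, IsType 4 x → IsType 2 v → bf x v = 1 → ∃ y : Co1, orderOf y = 23 ∧ y • x = x ∧ y • v = v

/-- vectors of type 4 -/
def HFour : Prop := ∀ v q : L2, IsType 2 v → q ≠ 0 → q ≠ v → bf q v = 0 → ∃ x : L2, IsType 4 x ∧ bf x v = 1 ∧ bf x q = 0

section

variable {G : Type} [Group G] {Q : Subgroup G} {z : G} {eta : G → L2}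
  {pi : Subgroup.centralizer ({z} : Set G) →* Co1}

/-- the hypothesis `Hk` -/
theorem exists_k {v : L2} (hv : IsType 2 v) : ∃ k : Co1, k • v = v ∧ ∃ w : L2, w + k • w = v := by
  obtain ⟨w, hw⟩ := exists_w 0 (by norm_num)
  obtain ⟨g0, hg⟩ := IsType.trans (Or.inl rfl) type_leechU hv
  set g : Co1 := QuotientGroup.mk g0 with hgdef
  have hg' : g • cl leechU = v := by rw [hgdef, Cfsg.Agent.MonsterU.Lam2.mk_smul]; exact hg
  refine ⟨g * jCo2 (tt 0) * g⁻¹, ?_, g • w, ?_⟩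
  · rw [mul_smul, mul_smul, ← hg', inv_smul_smul, jCo2_fix]
  · rw [mul_smul, mul_smul, inv_smul_smul, ← smul_add, hw, hg']

/-- **2-elements and elements of order three of `C(z) ∩ C(u)`** -/
theorem cent_ok (h : Chart Q z eta pi) {u : G} (hu : u ∈ Q) (hv : IsType 2 (eta u)) (H : HTab) (h23 : H23)
    (h4 : HFour) {g : G} (hgz : g * z = z * g) (hgu : g * u = u * g)
    (ho : ∀ c : centralizer ({z} : Set G), (c : G) = g → (∃ k, orderOf (pi c) = 2 ^ k) ∨ orderOf (pi c) = 3) :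
    CommU z u g := by
  let c : centralizer ({z} : Set G) := ⟨g, mem_centralizer_singleton_iff.2 hgz⟩
  have hfix : pi c • eta u = eta u := by
    rw [← h.eta_conj c u hu]
    congr 1
    show g * u * g⁻¹ = u
    rw [hgu, mul_inv_cancel_right]
  exact cent_all h hu hv (fun x hx hb => h23 x (eta u) hx hv hb) (fun q hq hq' hb => h4 (eta u) q hv hq hq' hb)
    (exists_k hv) (g := c) hgu (fun h1 => f23h_of H hv hfix h1 (ho c rfl))
    (fun h1 => (Cfsg.Agent.H692.QS.fr_le (pi c) h1 (ho c rfl)).trans (by norm_num))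

end

/-- the element of class 2A over `leechU` -/
theorem exists_u : ∃ u ∈ QQ, eta u = cl leechU := by
  obtain ⟨u, hu, e⟩ := chart.eta_surj (cl leechU)
  exact ⟨u, hu, e⟩

theorem ta_of_type {u : MG} (hu : u ∈ QQ) (h2 : IsType 2 (eta u)) : LThreeB.Row.TA u := by
  obtain ⟨p, rfl⟩ := hu
  apply Cfsg.Agent.BpSpor.MBigModel.ta_iota
  rwa [show eta (MonsterX.KDone.K.ι p) = _ from Cfsg.Agent.LThreeMB.KChart.eta_ι MonsterX.KDone.lft p] at h2

/-- **odd index** -/
theorem odd_index {u : MG} (hu : u ∈ QQ) (e : eta u = cl leechU) :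
    Odd ((centralizer ({zz} : Set MG)).subgroupOf (centralizer ({u} : Set MG))).index := by
  have hfin : Finite MG := Cfsg.Agent.BpSpor.MBigModel.finite
  have h2 : IsType 2 (eta u) := by rw [e]; exact type_leechU
  obtain ⟨β, -, hβs, hβ1⟩ := exists_be chart hu e
  have hker : Nat.card β.ker = 2 ^ 24 := by
    rw [← card_PP chart hu h2]
    apply Nat.card_congr
    exact
      { toFun := fun g => ⟨((g : CC zz u) : MG), Subgroup.mem_inf.2 ⟨(hβ1 g).1 g.2, (Subgroup.mem_inf.1 (g : CC zz u).2).2⟩⟩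
        invFun := fun g => ⟨⟨(g : MG), Subgroup.mem_inf.2 ⟨mem_centralizer_singleton_iff.2
          (chart.large.comm_z g (Subgroup.mem_inf.1 g.2).1), (Subgroup.mem_inf.1 g.2).2⟩⟩,
          (hβ1 _).2 (Subgroup.mem_inf.1 g.2).1⟩
        left_inv := fun _ => rfl
        right_inv := fun _ => rfl }
  have h1 : Nat.card (CC zz u) = 2 ^ 24 * 42305421312000 := by
    rw [← Subgroup.card_mul_index β.ker, hker, Subgroup.index_ker, MonoidHom.range_eq_top.2 hβs, Subgroup.card_top,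
      Cfsg.Agent.BiChar.Small.card_Co2]
  obtain ⟨S, hS⟩ : ∃ S, S = (centralizer ({zz} : Set MG)).subgroupOf (centralizer ({u} : Set MG)) := ⟨_, rfl⟩
  rw [← hS]
  have h3 : Nat.card S = Nat.card (CC zz u) := by
    rw [hS]
    exact Nat.card_congr
      { toFun := fun g => ⟨((g : centralizer ({u} : Set MG)) : MG), Subgroup.mem_inf.2 ⟨g.2, g.1.2⟩⟩
        invFun := fun g => ⟨⟨(g : MG), (Subgroup.mem_inf.1 g.2).2⟩, (Subgroup.mem_inf.1 g.2).1⟩
        left_inv := fun _ => rfl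
        right_inv := fun _ => rfl }
  have h4 := Subgroup.card_mul_index S
  rw [h3, h1, Cfsg.Agent.BpSpor.MBigModel.card_cent_t (ta_of_type hu h2)] at h4
  by_contra hodd
  rw [Nat.not_odd_iff_even] at hodd
  obtain ⟨m, hm⟩ := hodd
  rw [hm] at h4
  omega

/-- **The 2-elements of `C(u)`.** -/
theorem two_aux (H : HTab) (h23 : H23) (h4 : HFour) {u : MG} (hu : u ∈ QQ) (e : eta u = cl leechU) {g : MG}
    (hgu : g * u = u * g) (hg : ∃ k : ℕ, orderOf g = 2 ^ k) :
    ∃ a b : MG, a * u = u * a ∧ b * u = u * b ∧ g = a * b * a⁻¹ * b⁻¹ := by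
  have hfin : Finite MG := Cfsg.Agent.BpSpor.MBigModel.finite
  have h2 : IsType 2 (eta u) := by rw [e]; exact type_leechU
  obtain ⟨k, hk⟩ := hg
  obtain ⟨s, hs⟩ := Cfsg.Agent.H6.ORE.exists_conj_mem (odd_index hu e)
    (x := (⟨g, mem_centralizer_singleton_iff.2 hgu⟩ : centralizer ({u} : Set MG)))
    ⟨k, by rw [← Subgroup.orderOf_coe]; exact hk⟩
  have hsu : (s : MG) * u = u * s := mem_centralizer_singleton_iff.1 s.2
  have h3 : (s : MG) * g * (s : MG)⁻¹ ∈ centralizer ({zz} : Set MG) := hs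
  have h5 : (s : MG) * g * (s : MG)⁻¹ ∈ centralizer ({u} : Set MG) :=
    mul_mem (mul_mem s.2 (mem_centralizer_singleton_iff.2 hgu)) (inv_mem s.2)
  obtain ⟨a, b, -, -, au, bu, ee⟩ := cent_ok chart hu h2 H h23 h4 (mem_centralizer_singleton_iff.1 h3)
    (mem_centralizer_singleton_iff.1 h5) (by
      intro c hc
      left
      have h6 : orderOf c = 2 ^ k := by
        rw [← Subgroup.orderOf_coe, hc, ← hk]
        exact MulEquiv.orderOf_eq (MulAut.conj (s : MG)) g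
      have h7 : orderOf (pi c) ∣ 2 ^ k := by rw [← h6]; exact orderOf_map_dvd pi c
      obtain ⟨j, -, hj⟩ := (Nat.dvd_prime_pow Nat.prime_two).1 h7
      exact ⟨j, hj⟩)
  have key : ∀ {c : MG}, c * u = u * c → ((s : MG)⁻¹ * c * s) * u = u * ((s : MG)⁻¹ * c * s) := by
    intro c hc
    have m : (s : MG)⁻¹ * c * s ∈ centralizer ({u} : Set MG) :=
      mul_mem (mul_mem (inv_mem s.2) (mem_centralizer_singleton_iff.2 hc)) s.2
    exact mem_centralizer_singleton_iff.1 m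
  refine ⟨(s : MG)⁻¹ * a * s, (s : MG)⁻¹ * b * s, key au, key bu, ?_⟩
  calc g = (s : MG)⁻¹ * ((s : MG) * g * (s : MG)⁻¹) * s := by group
    _ = _ := by rw [ee]; group

/-- **The 2-elements of `C(t)`.** -/
theorem two_elt (H : HTab) (h23 : H23) (h4 : HFour) {t : MG} (ht : LThreeB.Row.TA t) {g : MG}
    (hgt : g * t = t * g) (hg : ∃ k : ℕ, orderOf g = 2 ^ k) :
    ∃ a b : MG, a * t = t * a ∧ b * t = t * b ∧ g = a * b * a⁻¹ * b⁻¹ := by
  obtain ⟨u, hu, e⟩ := exists_u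
  have h2 : IsType 2 (eta u) := by rw [e]; exact type_leechU
  have h1 : IsConj t u := (show IsConj _ t from ht).symm.trans (ta_of_type hu h2)
  obtain ⟨s, rfl⟩ := isConj_iff.1 h1
  have cj : ∀ {c t : MG}, c * t = t * c → (s * c * s⁻¹) * (s * t * s⁻¹) = (s * t * s⁻¹) * (s * c * s⁻¹) := by
    intro c t h
    calc (s * c * s⁻¹) * (s * t * s⁻¹) = s * (c * t) * s⁻¹ := by group
      _ = s * (t * c) * s⁻¹ := by rw [h]
      _ = _ := by group
  have cj' : ∀ {c t : MG}, c * (s * t * s⁻¹) = (s * t * s⁻¹) * c → (s⁻¹ * c * s) * t = t * (s⁻¹ * c * s) := by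
    intro c t h
    calc (s⁻¹ * c * s) * t = s⁻¹ * (c * (s * t * s⁻¹)) * s := by group
      _ = s⁻¹ * ((s * t * s⁻¹) * c) * s := by rw [h]
      _ = _ := by group
  obtain ⟨k, hk⟩ := hg
  obtain ⟨a, b, ha, hb, ee⟩ := two_aux H h23 h4 hu e (cj hgt) ⟨k, by
    rw [← hk]; exact MulEquiv.orderOf_eq (MulAut.conj s) g⟩
  refine ⟨s⁻¹ * a * s, s⁻¹ * b * s, cj' ha, cj' hb, ?_⟩
  calc g = s⁻¹ * (s * g * s⁻¹) * s := by group
    _ = _ := by rw [ee]; group

/-- **Elements of order three** commuting with a conjugate `w` of `z` with `w t` of class 2A. -/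
theorem three_elt (H : HTab) (h23 : H23) (h4 : HFour)
    (CP : ∀ {w t u : MG}, IsConj zz w → LThreeB.Row.TA t → w * t = t * w → LThreeB.Row.TA (w * t) → u ∈ QQ →
      IsType 2 (eta u) → ∃ k : MG, k * w * k⁻¹ = zz ∧ k * t * k⁻¹ = u)
    {x t w : MG} (hx : orderOf x = 3) (ht : LThreeB.Row.TA t) (hxt : x * t = t * x) (hw : IsConj zz w)
    (hwx : w * x = x * w) (hwt : w * t = t * w) (hta : LThreeB.Row.TA (w * t)) :
    (∃ a b : MG, a * t = t * a ∧ b * t = t * b ∧ x = a * b * a⁻¹ * b⁻¹) ∧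
    (∃ a b : MG, a * t = t * a ∧ b * t = t * b ∧ x * t = a * b * a⁻¹ * b⁻¹) := by
  obtain ⟨u, hu, e⟩ := exists_u
  have h2 : IsType 2 (eta u) := by rw [e]; exact type_leechU
  obtain ⟨s, hs1, rfl⟩ := CP hw ht hwt hta hu h2
  have cj : ∀ {c t : MG}, c * t = t * c → (s * c * s⁻¹) * (s * t * s⁻¹) = (s * t * s⁻¹) * (s * c * s⁻¹) := by
    intro c t h
    calc (s * c * s⁻¹) * (s * t * s⁻¹) = s * (c * t) * s⁻¹ := by group
      _ = s * (t * c) * s⁻¹ := by rw [h]
      _ = _ := by group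
  have cj' : ∀ {c t : MG}, c * (s * t * s⁻¹) = (s * t * s⁻¹) * c → (s⁻¹ * c * s) * t = t * (s⁻¹ * c * s) := by
    intro c t h
    calc (s⁻¹ * c * s) * t = s⁻¹ * (c * (s * t * s⁻¹)) * s := by group
      _ = s⁻¹ * ((s * t * s⁻¹) * c) * s := by rw [h]
      _ = _ := by group
  have back : ∀ {g : MG}, CommU zz (s * t * s⁻¹) (s * g * s⁻¹) →
      ∃ a b : MG, a * t = t * a ∧ b * t = t * b ∧ g = a * b * a⁻¹ * b⁻¹ := by
    rintro g ⟨a, b, -, -, ha, hb, ee⟩
    refine ⟨s⁻¹ * a * s, s⁻¹ * b * s, cj' ha, cj' hb, ?_⟩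
    calc g = s⁻¹ * (s * g * s⁻¹) * s := by group
      _ = _ := by rw [ee]; group
  have hxz : (s * x * s⁻¹) * zz = zz * (s * x * s⁻¹) := by rw [← hs1]; exact cj hwx.symm
  have huz : (s * t * s⁻¹) * zz = zz * (s * t * s⁻¹) := chart.large.comm_z _ hu
  let c : centralizer ({zz} : Set MG) := ⟨s * x * s⁻¹, mem_centralizer_singleton_iff.2 hxz⟩
  have hc3 : orderOf c = 3 := by
    rw [← Subgroup.orderOf_coe, ← hx]
    exact MulEquiv.orderOf_eq (MulAut.conj s) x
  have hpi : orderOf (pi c) = 3 := by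
    have h3 : orderOf (pi c) ∣ 3 := by rw [← hc3]; exact orderOf_map_dvd pi c
    rcases (Nat.dvd_prime Nat.prime_three).1 h3 with h5 | h5
    · exfalso
      have h6 : (c : MG) ∈ QQ := (chart.pi_eq_one c).1 (orderOf_eq_one_iff.1 h5)
      have h7 : ((c : MG)) ^ 4 = 1 := by
        rcases chart.large.sq _ h6 with h8 | h8
        · calc ((c : MG)) ^ 4 = ((c : MG) * c) * ((c : MG) * c) := by simp only [pow_succ, pow_zero, one_mul, mul_assoc]
            _ = 1 := by rw [h8, one_mul]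
        · calc ((c : MG)) ^ 4 = ((c : MG) * c) * ((c : MG) * c) := by simp only [pow_succ, pow_zero, one_mul, mul_assoc]
            _ = 1 := by rw [h8]; exact chart.large.z_sq
      have h9 := orderOf_dvd_of_pow_eq_one h7
      rw [Subgroup.orderOf_coe, hc3] at h9
      norm_num at h9
    · exact h5
  refine ⟨back (cent_ok chart hu h2 H h23 h4 hxz (cj hxt) ?_), back (cent_ok chart hu h2 H h23 h4 ?_ (cj ?_) ?_)⟩
  · intro c' hc'
    right
    rw [show c' = c from Subtype.ext hc', hpi]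
  · have h3 : s * (x * t) * s⁻¹ = (s * x * s⁻¹) * (s * t * s⁻¹) := by group
    rw [h3, mul_assoc, huz, ← mul_assoc, hxz, mul_assoc]
  · rw [mul_assoc, ← mul_assoc t x, ← hxt, mul_assoc]
  · intro c' hc'
    right
    have h3 : c' = c * ⟨s * t * s⁻¹, mem_centralizer_singleton_iff.2 huz⟩ := by
      apply Subtype.ext
      rw [hc']
      show s * (x * t) * s⁻¹ = (s * x * s⁻¹) * (s * t * s⁻¹)
      group
    have h4 : pi ⟨s * t * s⁻¹, mem_centralizer_singleton_iff.2 huz⟩ = 1 :=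
      (chart.pi_eq_one ⟨s * t * s⁻¹, mem_centralizer_singleton_iff.2 huz⟩).2 hu
    rw [h3, map_mul, h4, mul_one, hpi]

end Cfsg.Agent.H658.TwoB
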