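import Cfsg.Agent.H658.TwoB.Coset
import Cfsg.Agent.H6.ORE.LargeOre
import Cfsg.Agent.LThreeMB.Fus
import Cfsg.Agent.H861.RCoA

/-!
# Commutators in `C(z) ∩ C(u)`, `u ∈ Q` of type 2 (helper658, row 2.B of S2491/S2492)

`cent_out` : an element of `C(z) ∩ C(u)` outside of `Q` is a commutator of elements of `C(z) ∩ C(u)`.
-/

set_option autoImplicit false

namespace Cfsg.Agent.H658.TwoB

open Cfsg Module
open Cfsg.Agent.H6.ORE
open Cfsg.Agent.MonsterU.Ch (Chart)
open Cfsg.Agent.MonsterU.Lam2 (L2 IsType bf qf qf_add bf_add_left bf_add_right bf_comm bf_zero_left bf_zero_right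
  bf_nondeg bf_smul1 bf_self qf_smul1 card_L2)
open Cfsg.Agent.LThreeMB (bL bL_apply fr)
open Cfsg.Spor (Co1)

/-- the data of an element of `Co1` fixing `v` -/
def F23h (v : L2) (l : Co1) : Prop := ∃ a b : Co1, a • v = v ∧ b • v = v ∧ l = a * b * a⁻¹ * b⁻¹ ∧
  (∃ y ∈ Subgroup.closure ({a, b} : Set Co1), orderOf y = 23) ∧
  ∃ h ∈ Subgroup.closure ({a, b} : Set Co1), ∃ w : L2, w + h • w = v

/-- the action as a linear equivalence -/
noncomputable def act1 (s : Co1) : L2 ≃ₗ[ZMod 2] L2 :=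
  (DistribMulAction.toAddEquiv L2 s).toLinearEquiv (fun c x => ZMod.map_smul _ c x)

theorem act1_apply (s : Co1) (x : L2) : act1 s x = s • x := rfl


/-! ### `FPr` from fixed points -/

section

universe u

variable {H : Type u} [Group H] {Q : Subgroup H} {z : H}

theorem perp_of_hyper {V : Type*} [AddCommGroup V] [Module (ZMod 2) V]
    (ω : LinearMap.BilinForm (ZMod 2) V) (hnd : ∀ u, (∀ v, ω u v = 0) → u = 0)
    {ρ : V} (hρ : ρ ≠ 0) {d : V} (hd : ∀ w, ω ρ w = 0 → ω d w = 0) : d = 0 ∨ d = ρ := by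
  have c2 : ∀ c : ZMod 2, c = 0 ∨ c = 1 := by decide
  have h0 : ∃ v₀, ω ρ v₀ = 1 := by
    by_contra hno
    push Not at hno
    exact hρ (hnd ρ fun w => (c2 _).resolve_right (hno w))
  obtain ⟨v₀, hv₀⟩ := h0
  have h1 : ∀ w, ω (d - (ω d v₀) • ρ) w = 0 := by
    intro w
    rw [map_sub, LinearMap.sub_apply, map_smul, LinearMap.smul_apply, smul_eq_mul]
    have h2 : ω d (w - (ω ρ w) • v₀) = 0 := by
      apply hd
      rw [map_sub, map_smul, smul_eq_mul, hv₀, mul_one, sub_self]
    rw [map_sub, map_smul, smul_eq_mul] at h2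
    linear_combination h2
  have h2 := sub_eq_zero.1 (hnd _ h1)
  rcases c2 (ω d v₀) with h3 | h3
  · left; rw [h2, h3, zero_smul]
  · right; rw [h2, h3, one_smul]

theorem FPr.of_fix (h : ES Q z) (D : VData Q z) {ρ a b : H} (hρ : ρ ∈ Q) (hρ1 : ρ ≠ 1) (hρz : ρ ≠ z)
    (aρ : a * ρ = ρ * a) (bρ : b * ρ = ρ * b)
    (hfix : letI := D.acg; ∀ v : D.V, (D.L a v = v ∨ D.L a v = v + D.cls ⟨ρ, hρ⟩) →
      (D.L b v = v ∨ D.L b v = v + D.cls ⟨ρ, hρ⟩) → v = 0 ∨ v = D.cls ⟨ρ, hρ⟩) : FPr Q z ρ a b := by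
  classical
  let _ := D.acg
  let _ := D.mod
  have hfin := D.fin
  have : FiniteDimensional (ZMod 2) D.V := Module.Finite.of_finite
  let K : H → Q → Q := fun g x => ⟨g * x * g⁻¹, h.conj_mem x.2 g⟩
  have hL : ∀ g x, D.L g (D.cls x) = D.cls (K g x) := fun g x => D.L_cls g x _ rfl
  have ceq : ∀ s t : ZMod 2, (s = 0 ↔ t = 0) → s = t := by decide
  have h0 : D.cls 1 = 0 := by
    have := D.cls_mul 1 1
    rw [mul_one] at this
    have h2 : D.cls 1 + 0 = D.cls 1 + D.cls 1 := by rw [add_zero]; exact this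
    exact (add_left_cancel h2).symm
  have two : ∀ x : D.V, x + x = 0 := by
    intro x
    have : (2 : ZMod 2) • x = 0 := by
      rw [show (2 : ZMod 2) = 0 from rfl, zero_smul]
    rwa [two_smul] at this
  have hinv : ∀ x : Q, D.cls x⁻¹ = D.cls x := by
    intro x
    rw [D.cls_eq]
    rcases h.pow x x.2 with e' | e'
    · left
      exact (inv_eq_of_mul_eq_one_right e').symm
    · right
      have : (x : H)⁻¹ * x * x = (x : H)⁻¹ * z := by rw [mul_assoc, e']
      simpa using this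
  have hs : ∀ x y, D.ω x y = D.ω y x := by
    intro u v
    obtain ⟨x, rfl⟩ := D.surj u
    obtain ⟨y, rfl⟩ := D.surj v
    apply ceq
    rw [D.ω_cls, D.ω_cls]
    exact eq_comm
  have key : ∀ u, (∀ v, D.ω u v = 0) → u = 0 := by
    intro u hu
    obtain ⟨x, rfl⟩ := D.surj u
    have h1 := h.nd x x.2 (fun y hy => by
      have := hu (D.cls ⟨y, hy⟩)
      rwa [D.ω_cls] at this)
    rw [← h0, eq_comm, D.cls_eq]
    simpa using h1
  have hiso : ∀ g x y, D.ω (D.L g x) (D.L g y) = D.ω x y := by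
    intro g u v
    obtain ⟨x, rfl⟩ := D.surj u
    obtain ⟨y, rfl⟩ := D.surj v
    apply ceq
    rw [hL, hL, D.ω_cls, D.ω_cls]
    constructor
    · intro e'
      have e'' : g * ((x : H) * y) * g⁻¹ = g * (y * x) * g⁻¹ := by
        calc g * ((x : H) * y) * g⁻¹ = (K g x : H) * (K g y : H) := by
              show _ = (g * x * g⁻¹) * (g * y * g⁻¹); group
          _ = (K g y : H) * (K g x : H) := e'
          _ = _ := by show (g * y * g⁻¹) * (g * x * g⁻¹) = _; group
      exact mul_left_cancel (mul_right_cancel e'')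
    · intro e'
      show (g * x * g⁻¹) * (g * y * g⁻¹) = (g * y * g⁻¹) * (g * x * g⁻¹)
      calc (g * (x : H) * g⁻¹) * (g * y * g⁻¹) = g * (x * y) * g⁻¹ := by group
        _ = g * (y * x) * g⁻¹ := by rw [e']
        _ = _ := by group
  -- every functional is given by the form
  have hrep : ∀ f : D.V →ₗ[ZMod 2] ZMod 2, ∃ u, ∀ w, f w = D.ω u w := by
    have hinj : Function.Injective D.ω := by
      rw [injective_iff_map_eq_zero]
      intro u hu
      apply key
      intro v
      rw [hu]; rfl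
    have hsurj : Function.Surjective D.ω := by
      have hfr : finrank (ZMod 2) D.V = finrank (ZMod 2) (D.V →ₗ[ZMod 2] ZMod 2) :=
        (Subspace.dual_finrank_eq (K := ZMod 2) (V := D.V)).symm
      exact (LinearMap.injective_iff_surjective_of_finrank_eq_finrank hfr).1 hinj
    intro f
    obtain ⟨u, hu⟩ := hsurj f
    exact ⟨u, fun w => by rw [← hu]⟩
  obtain ⟨r, hr⟩ : ∃ r, r = D.cls ⟨ρ, hρ⟩ := ⟨_, rfl⟩
  rw [← hr] at hfix
  have hr0 : r ≠ 0 := by
    rw [← h0, hr]
    intro h1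
    rw [eq_comm, D.cls_eq] at h1
    rcases h1 with h1 | h1
    · exact hρ1 h1
    · exact hρz (by simpa using h1)
  have hrω : ∀ x : Q, D.ω r (D.cls x) = 0 ↔ (x : H) * ρ = ρ * x := by
    intro x
    rw [hr, D.ω_cls]
    exact eq_comm
  have hrL : ∀ k : H, k * ρ = ρ * k → D.L k r = r := by
    intro k hk
    rw [hr, hL]
    congr 1
    apply Subtype.ext
    show k * ρ * k⁻¹ = ρ
    rw [hk, mul_inv_cancel_right]
  let W : Submodule (ZMod 2) D.V := LinearMap.ker (D.ω r)
  have hW : ∀ x, x ∈ W ↔ D.ω r x = 0 := fun x => LinearMap.mem_ker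
  let La : D.V →ₗ[ZMod 2] D.V := LinearMap.id + (D.L a).toLinearMap
  let Lb : D.V →ₗ[ZMod 2] D.V := LinearMap.id + (D.L b).toLinearMap
  have hLa : ∀ v, La v = v + D.L a v := fun _ => rfl
  have hLb : ∀ v, Lb v = v + D.L b v := fun _ => rfl
  have hT : W ≤ W.map La ⊔ W.map Lb := by
    intro w hw
    by_contra hne
    obtain ⟨f, hf, hle⟩ := Submodule.exists_dual_map_eq_bot_of_notMem hne inferInstance
    obtain ⟨u, hu⟩ := hrep f
    have hf0 : ∀ s ∈ W.map La ⊔ W.map Lb, f s = 0 := by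
      intro s hs'
      have : f s ∈ (W.map La ⊔ W.map Lb).map f := ⟨s, hs', rfl⟩
      rwa [hle, Submodule.mem_bot] at this
    have fixed : ∀ g : H, g * ρ = ρ * g → (∀ w ∈ W, f (w + D.L g w) = 0) → D.L g u = u ∨ D.L g u = u + r := by
      intro g hg hgw
      have h1 : ∀ w, D.ω r w = 0 → D.ω (D.L g u + u) w = 0 := by
        intro w hw
        obtain ⟨w, rfl⟩ := (D.L g).surjective w
        have hw' : D.ω r w = 0 := by rw [← hiso g, hrL g hg]; exact hw
        rw [map_add, LinearMap.add_apply, hiso, ← hu, ← hu, ← map_add]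
        exact hgw w hw'
      rcases perp_of_hyper D.ω key hr0 h1 with h2 | h2
      · left
        have h3 := congrArg (fun t => t + u) h2
        simpa [add_assoc, two] using h3
      · right
        have h3 : D.L g u + u + u = r + u := by rw [h2]
        rw [add_assoc, two, add_zero] at h3
        rw [h3, add_comm]
    have fa := fixed a aρ fun w hw => hf0 _ (Submodule.mem_sup_left ⟨w, hw, rfl⟩)
    have fb := fixed b bρ fun w hw => hf0 _ (Submodule.mem_sup_right ⟨w, hw, rfl⟩)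
    rcases hfix u fa fb with h5 | h5
    · apply hf
      rw [hu, h5, map_zero, LinearMap.zero_apply]
    · apply hf
      rw [hu, h5]
      exact hw
  intro w hw hwρ
  have hw' : D.cls ⟨w, hw⟩ ∈ W.map La ⊔ W.map Lb := hT ((hrω ⟨w, hw⟩).2 hwρ)
  rw [Submodule.mem_sup] at hw'
  obtain ⟨_, ⟨v', hv', rfl⟩, _, ⟨u', hu', rfl⟩, e⟩ := hw'
  obtain ⟨v, rfl⟩ := D.surj v'
  obtain ⟨u, rfl⟩ := D.surj u'
  have h2 : D.cls (u * (K b u)⁻¹ * (v * (K a v)⁻¹)) = D.cls ⟨w, hw⟩ := by
    rw [D.cls_mul, D.cls_mul, D.cls_mul, hinv, hinv, ← hL, ← hL, ← e, hLa, hLb]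
    abel
  rw [D.cls_eq] at h2
  have h3 : w = u * (b * u * b⁻¹)⁻¹ * (v * (a * v * a⁻¹)⁻¹) ∨
      w = u * (b * u * b⁻¹)⁻¹ * (v * (a * v * a⁻¹)⁻¹) * z := h2
  rcases h3 with h3 | h3
  · exact ⟨u, u.2, (hrω u).1 hu', v, v.2, (hrω v).1 hv', 1, Or.inl rfl, by rw [h3, mul_one]⟩
  · exact ⟨u, u.2, (hrω u).1 hu', v, v.2, (hrω v).1 hv', z, Or.inr rfl, h3⟩

end

/-! ### the action on the lattice -/

theorem add_self' (x : L2) : x + x = 0 := Cfsg.Agent.MonsterU.Lam2.add_self x

theorem eq_of_add {x y : L2} (h : x + y = 0) : x = y := Cfsg.Agent.MonsterU.Lam2.eq_of_add_eq_zero h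

/-- a type 2 vector is singular -/
theorem qf_two {v : L2} (hv : IsType 2 v) : qf v = 0 := by
  obtain ⟨w, hw, rfl⟩ := hv
  rw [Cfsg.Agent.MonsterU.Lam2.qf_cl_eq_zero, hw]
  norm_num

/-- the vector of `F23h` is orthogonal to `v` -/
theorem bf_of_add {v w : L2} {h : Co1} (hq : qf v = 0) (e : w + h • w = v) : bf v w = 0 := by
  have h1 := qf_add w (h • w)
  rw [e, qf_smul1, hq] at h1
  have h2 : bf w (h • w) = 0 := by
    have c : ∀ a b : ZMod 2, 0 = a + a + b → b = 0 := by decide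
    exact c _ _ h1
  rw [← e, bf_add_left, bf_self, zero_add, bf_comm, h2]

/-- **No invariant functionals.** -/
theorem no_functional {v x w : L2} {h : Co1} (hq : qf v = 0) (hv : h • v = v) (e : w + h • w = v)
    (hx : h • x = x ∨ h • x = x + v) : bf x v = 0 := by
  have h1 : bf x v = bf x w + bf x (h • w) := by rw [← bf_add_right, e]
  have c : ∀ a : ZMod 2, a + a = 0 := by decide
  rcases hx with hx | hx
  · have h2 : bf x (h • w) = bf x w := by
      conv_lhs => rw [← hx]
      exact bf_smul1 h x w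
    rw [h1, h2, c]
  · have h3 : x = h • x + v := by
      rw [hx, add_assoc, add_self', add_zero]
    have h2 : bf x (h • w) = bf x w + bf v w := by
      conv_lhs => rw [h3]
      rw [bf_add_left, bf_smul1]
      congr 1
      conv_lhs => rw [← hv]
      exact bf_smul1 h v w
    rw [h1, h2, bf_of_add hq e, add_zero, c]

/-- powers of an element fixing `x` modulo `v` -/
theorem mod_closure {v x : L2} {a b : Co1} (av : a • v = v) (bv : b • v = v) (ha : a • x = x ∨ a • x = x + v)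
    (hb : b • x = x ∨ b • x = x + v) {g : Co1} (hg : g ∈ Subgroup.closure ({a, b} : Set Co1)) :
    g • v = v ∧ (g • x = x ∨ g • x = x + v) := by
  induction hg using Subgroup.closure_induction with
  | mem g hg =>
    rcases hg with rfl | hg
    · exact ⟨av, ha⟩
    · rw [Set.mem_singleton_iff] at hg
      subst hg
      exact ⟨bv, hb⟩
  | one => exact ⟨one_smul _ _, Or.inl (one_smul _ _)⟩
  | mul g k _ _ hg hk =>
    refine ⟨by rw [mul_smul, hk.1, hg.1], ?_⟩
    rcases hk.2 with h1 | h1 <;> rcases hg.2 with h2 | h2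
    · left; rw [mul_smul, h1, h2]
    · right; rw [mul_smul, h1, h2]
    · right; rw [mul_smul, h1, smul_add, h2, hg.1]
    · left; rw [mul_smul, h1, smul_add, h2, hg.1, add_assoc, add_self', add_zero]
  | inv g _ hg =>
    have h1 : g⁻¹ • v = v := by rw [inv_smul_eq_iff, hg.1]
    refine ⟨h1, ?_⟩
    rcases hg.2 with h2 | h2
    · left; rw [inv_smul_eq_iff, h2]
    · right; rw [inv_smul_eq_iff, smul_add, h2, hg.1, add_assoc, add_self', add_zero]

/-- an element of order 23 fixing `x` modulo `v` fixes `x` -/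
theorem fix_of_mod {v x : L2} {y : Co1} (hy : orderOf y = 23) (hv : y • v = v) (hx : y • x = x ∨ y • x = x + v) :
    y • x = x := by
  rcases hx with hx | hx
  · exact hx
  · have h1 : y ^ 2 • x = x := by
      rw [pow_two, mul_smul, hx, smul_add, hx, hv, add_assoc, add_self', add_zero]
    have h2 : y ^ 22 • x = x := by
      have h3 : y ^ 2 ∈ MulAction.stabilizer Co1 x := h1
      have h4 := Subgroup.pow_mem _ h3 11
      rw [← pow_mul] at h4
      exact h4
    have h5 : y ^ 23 • x = x := by rw [← hy, pow_orderOf_eq_one, one_smul]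
    rw [pow_succ', mul_smul, h2] at h5
    exact h5

open Cfsg.Agent.H861.RCoA in
open Cfsg.Agent.MonsterU.CoFrame Cfsg.Agent.MonsterU.CoFrameL2 Cfsg.Agent.MonsterU.CoFrameIrr
  Cfsg.Agent.MonsterU.Lam2 Cfsg.Agent.SporadicStructure.Co0Base in
/-- the fixed points of an element of order 23 -/
theorem fix23 {v x : L2} {y : Co1} (hy : orderOf y = 23) (hv2 : IsType 2 v) (hv : y • v = v) (hx : y • x = x)
    (hb : bf x v = 0) : x = 0 ∨ x = v := by
  obtain ⟨g, n, e⟩ := exists_conj hy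
  have hX : ∀ t : L2, y • t = t → X • (g • t) = g • t := by
    intro t ht
    have h1 : y ^ n • t = t := by
      have h3 : y ∈ MulAction.stabilizer Co1 t := ht
      exact Subgroup.pow_mem _ h3 n
    rw [← e, mul_smul, mul_smul, inv_smul_smul, h1]
  have h1 := fixed_X (hX v hv)
  have h2 := fixed_X (hX x hx)
  have hgv : IsType 2 (g • v) := hv2.smul1 g
  have hgv' : g • v = cl u0 := by
    rcases h1 with h | h | h | h
    · rw [h] at hgv
      exact absurd hgv Cfsg.Agent.MonsterU.InvPair.not_zero_two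
    · rw [h] at hgv
      exact absurd hgv (fun h' => Cfsg.Agent.MonsterU.InvPair.not_two_four h'
        Cfsg.Agent.MonsterU.AmalSideOf.type_f0)
    · exact h
    · exfalso
      have h3 := qf_two hgv
      rw [h, qf_cl_eq_zero, norm_u0'] at h3
      norm_num at h3
  have hb' : bf (g • x) (cl u0) = 0 := by rw [← hgv', bf_smul1, hb]
  have h10 : bf (cl u0) f0 = 1 := Cfsg.Agent.MonsterU.AmalElts.bf_u0
  rcases h2 with h | h | h | h
  · left; exact (smul_eq_zero_iff_eq g).1 h
  · exfalso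
    rw [h, bf_comm, h10] at hb'
    exact one_ne_zero hb'
  · right
    rw [← hgv'] at h
    exact smul_left_cancel g h
  · exfalso
    have h11 : cl (u0 + e8 none) = cl u0 + f0 := map_add _ _ _
    rw [h, h11, bf_add_left, bf_self, zero_add, bf_comm, h10] at hb'
    exact one_ne_zero hb'

section

variable {G : Type} [Group G] {Q : Subgroup G} {z : G} {eta : G → L2}
  {pi : Subgroup.centralizer ({z} : Set G) →* Co1}

/-- the data of the chart -/
noncomputable def vdata (h : Chart Q z eta pi) : VData (Q.subgroupOf (CZ z)) (zC z) where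
  V := L2
  acg := inferInstance
  mod := inferInstance
  fin := inferInstance
  cls x := eta ((x : CZ z) : G)
  surj v := by
    obtain ⟨x, hx, e⟩ := h.eta_surj v
    exact ⟨⟨⟨x, Subgroup.mem_centralizer_singleton_iff.2 (h.large.comm_z x hx)⟩, hx⟩, e⟩
  cls_mul x y := h.eta_mul _ x.2 _ y.2
  cls_eq x y := by
    have h1 : eta ((y : CZ z) : G) = eta ((x : CZ z) : G) ↔
      ((y : CZ z) : G) = ((x : CZ z) : G) ∨ ((y : CZ z) : G) = ((x : CZ z) : G) * z := h.eta_eq y.2 x.2
    rw [eq_comm, h1, Subtype.ext_iff, Subtype.ext_iff]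
    rfl
  ω := bL
  ω_cls x y := by
    have h1 : ((x : CZ z) : G) * ((y : CZ z) : G) = ((y : CZ z) : G) * ((x : CZ z) : G) ↔
      bf (eta ((x : CZ z) : G)) (eta ((y : CZ z) : G)) = 0 := h.comm_iff x.2 y.2
    rw [bL_apply, ← h1, Subtype.ext_iff]
    rfl
  L g := act1 (pi g)
  L_cls g x y e := by
    have h1 : eta ((g : G) * ((x : CZ z) : G) * (g : G)⁻¹) = pi g • eta ((x : CZ z) : G) := h.eta_conj g _ x.2
    rw [act1_apply, ← h1, e]
    rfl

theorem vdata_cls (h : Chart Q z eta pi) (x : Q.subgroupOf (CZ z)) : (vdata h).cls x = eta ((x : CZ z) : G) := rfl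

/-- lifts commuting with `u` -/
theorem exists_lift (h : Chart Q z eta pi) {u : G} (hu : u ∈ Q) (hv : eta u ≠ 0) {l : Co1} (hl : l • eta u = eta u) :
    ∃ c : CZ z, pi c = l ∧ (c : G) * u = u * c := by
  obtain ⟨c, hc⟩ := h.pi_surj l
  have hm : (c : G) * u * (c : G)⁻¹ ∈ Q := h.large.conj_mem c (Subgroup.mem_centralizer_singleton_iff.1 c.2) u hu
  have h1 : eta ((c : G) * u * (c : G)⁻¹) = eta u := by rw [h.eta_conj c u hu, hc, hl]
  rcases (h.eta_eq hm hu).1 h1 with h2 | h2
  · exact ⟨c, hc, mul_inv_eq_iff_eq_mul.1 h2⟩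
  · obtain ⟨w, hw⟩ : ∃ w, bf (eta u) w ≠ 0 := by
      by_contra hno
      push Not at hno
      exact hv (bf_nondeg hno)
    obtain ⟨q, hq, rfl⟩ := h.eta_surj w
    have h3 : u * q = q * u * z := by
      rcases h.large.comm u hu q hq with e | e
      · exact absurd ((h.comm_iff hu hq).1 e) hw
      · exact e
    have hqz : q * z = z * q := h.large.comm_z q hq
    refine ⟨⟨q, Subgroup.mem_centralizer_singleton_iff.2 hqz⟩ * c, ?_, ?_⟩
    · rw [map_mul, hc, (h.pi_eq_one _).2 hq, one_mul]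
    · show q * (c : G) * u = u * (q * c)
      have h4 : (c : G) * u = u * z * c := mul_inv_eq_iff_eq_mul.1 h2
      have huz : u * z = z * u := h.large.comm_z u hu
      calc q * (c : G) * u = q * (c * u) := by group
        _ = q * (u * z) * c := by rw [h4]; group
        _ = (q * u * z) * c := by group
        _ = (u * q) * c := by rw [h3]
        _ = u * (q * c) := by group

theorem finrank_L2 : finrank (ZMod 2) L2 = 24 := by
  have h1 : Nat.card L2 = 2 ^ finrank (ZMod 2) L2 := by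
    rw [Module.natCard_eq_pow_finrank (K := ZMod 2), Nat.card_zmod]
  rw [card_L2] at h1
  exact (Nat.pow_right_injective (le_refl 2) h1).symm

/-- **Elements outside `Q`.** -/
theorem cent_out (h : Chart Q z eta pi) {u : G} (hu : u ∈ Q) (hv : IsType 2 (eta u)) {g : CZ z}
    (hgu : (g : G) * u = u * g) (hF : F23h (eta u) (pi g)) (hfr : fr (pi g) ≤ 2 ^ 21) :
    ∃ a b : CZ z, (a : G) * u = u * a ∧ (b : G) * u = u * b ∧ g = a * b * a⁻¹ * b⁻¹ := by
  have hE := es_of_large h.large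
  have hv0 : eta u ≠ 0 := by
    intro e
    rw [e] at hv
    exact Cfsg.Agent.MonsterU.InvPair.not_zero_two hv
  obtain ⟨a₀, b₀, ha₀, hb₀, hl, ⟨y, hy, hy23⟩, k, hk, w, hw⟩ := hF
  obtain ⟨a, rfl, ha⟩ := exists_lift h hu hv0 ha₀
  obtain ⟨b, rfl, hb⟩ := exists_lift h hu hv0 hb₀
  have huz : u * z = z * u := h.large.comm_z u hu
  let u' : CZ z := ⟨u, Subgroup.mem_centralizer_singleton_iff.2 huz⟩
  have hu' : u' ∈ Q.subgroupOf (CZ z) := hu
  have hu1 : u' ≠ 1 := by
    intro e
    apply hv0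
    rw [show u = 1 from congrArg Subtype.val e, h.eta_one]
  have huz' : u' ≠ zC z := by
    intro e
    apply hv0
    rw [show u = z from congrArg Subtype.val e, h.eta_z]
  let D := vdata h
  have hfp : FPr (Q.subgroupOf (CZ z)) (zC z) u' a b := by
    refine FPr.of_fix hE D hu' hu1 huz' (Subtype.ext ha) (Subtype.ext hb) ?_
    intro (x : L2) hxa hxb
    have hxa' : pi a • x = x ∨ pi a • x = x + eta u := hxa
    have hxb' : pi b • x = x ∨ pi b • x = x + eta u := hxb
    have h1 := mod_closure ha₀ hb₀ hxa' hxb' hy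
    have h2 := mod_closure ha₀ hb₀ hxa' hxb' hk
    have h3 := fix_of_mod hy23 h1.1 h1.2
    exact fix23 hy23 hv h1.1 h3 (no_functional (qf_two hv) h2.1 hw h2.2)
  have hact : finrank (ZMod 2) (LinearMap.ker ((act1 (pi g)).toLinearMap - LinearMap.id)) + 3 ≤
        finrank (ZMod 2) L2 := by
    rw [finrank_L2]
    have h1 : Nat.card (LinearMap.ker ((act1 (pi g)).toLinearMap - LinearMap.id)) = fr (pi g) := by
      apply Nat.card_congr
      apply Equiv.subtypeEquivRight
      intro x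
      rw [LinearMap.mem_ker, LinearMap.sub_apply, sub_eq_zero]
      rfl
    rw [Module.natCard_eq_pow_finrank (K := ZMod 2), Nat.card_zmod] at h1
    rw [← h1] at hfr
    have h2 := (Nat.pow_le_pow_iff_right (by norm_num : 1 < 2)).1 hfr
    omega
  obtain ⟨q₁, h₁, s₁, q₂, h₂, s₂, e⟩ := step_r hE D hu' hu1 huz' (Subtype.ext ha) (Subtype.ext hb)
    (Subtype.ext hgu) hfp (by
      show ((g * (a * b * a⁻¹ * b⁻¹)⁻¹ : CZ z) : G) ∈ Q
      rw [← h.pi_eq_one, map_mul, hl]
      simp) hact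
  have s₁' : (q₁ : G) * u = u * q₁ := congrArg Subtype.val s₁
  have s₂' : (q₂ : G) * u = u * q₂ := congrArg Subtype.val s₂
  refine ⟨q₁ * a, q₂ * b, ?_, ?_, e⟩
  · show (q₁ : G) * a * u = u * (q₁ * a)
    rw [mul_assoc, ha, ← mul_assoc, s₁', mul_assoc]
  · show (q₂ : G) * b * u = u * (q₂ * b)
    rw [mul_assoc, hb, ← mul_assoc, s₂', mul_assoc]

end

end Cfsg.Agent.H658.TwoB
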