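import Cfsg.Agent.H658.TwoB.Two
import Cfsg.Agent.H658.TwoB.TwentyThree
import Cfsg.Agent.H258.TwoB.Final
import Cfsg.Agent.H705.TwoB.Pair

/-!
# Vectors of type 4 (helper658, row 2.B of S2491/S2492)

`h4` : `v` of type 2, `q ∉ {0, v}`, `bf q v = 0`: a vector `x` of type 4 with `bf x v = 1`, `bf x q = 0` (counting).
`two_ok`, `three_ok` : `two_elt`, `three_elt` without hypotheses.
-/

set_option autoImplicit false

namespace Cfsg.Agent.H658.TwoB

open Cfsg
open Cfsg.Agent.MonsterU.Lam2 (L2 IsType bf qf qf_add bf_add_left bf_zero_left bf_self card_L2 type_cases)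
open Cfsg.Agent.BpSpor.MBigModel (MG zz)
open Cfsg.Agent.H820.Par (QQ eta)

/-- **elements of order 23** -/
theorem h23 : H23 := fun _ _ h4 h2 hb => exists_23 h4 h2 hb

/-- the number of solutions -/
theorem card_sol {v q : L2} (hv : v ≠ 0) (hq : q ≠ 0) (hqv : q ≠ v) :
    2 ^ 22 ≤ Nat.card {x : L2 // bf x v = 1 ∧ bf x q = 0} := by
  obtain ⟨w, hw1, hw2⟩ := exists_perp hq hv (Ne.symm hqv)
  let f : L2 →+ ZMod 2 × ZMod 2 :=
    { toFun := fun x => (bf x v, bf x q)
      map_zero' := by rw [bf_zero_left, bf_zero_left]; rfl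
      map_add' := fun x y => by rw [bf_add_left, bf_add_left]; rfl }
  have h1 : Nat.card f.ker * f.ker.index = 2 ^ 24 := by rw [AddSubgroup.card_mul_index, card_L2]
  have h2 : f.ker.index ≤ 4 := by
    rw [AddSubgroup.index_ker]
    have h3 : Nat.card f.range ≤ Nat.card (ZMod 2 × ZMod 2) :=
      Nat.card_le_card_of_injective Subtype.val Subtype.val_injective
    rwa [Nat.card_prod, Nat.card_zmod] at h3
  have h3 : 2 ^ 22 ≤ Nat.card f.ker := by
    by_contra hlt
    push Not at hlt
    have h4 : Nat.card f.ker * f.ker.index < 2 ^ 22 * 4 := Nat.mul_lt_mul_of_lt_of_le hlt h2 (by norm_num)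
    rw [h1] at h4
    norm_num at h4
  refine h3.trans (Nat.card_le_card_of_injective (fun x : f.ker => ⟨(x : L2) + w, ?_⟩) ?_)
  · have h5 : (bf (x : L2) v, bf (x : L2) q) = (0, 0) := x.2
    have h6 := congrArg Prod.fst h5
    have h7 := congrArg Prod.snd h5
    simp only at h6 h7
    exact ⟨by rw [bf_add_left, h6, hw2, zero_add], by rw [bf_add_left, h7, hw1, zero_add]⟩
  · intro x y hxy
    exact Subtype.ext (add_right_cancel (congrArg Subtype.val hxy))

/-- **vectors of type 4** -/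
theorem h4 : HFour := by
  intro v q hv hq hqv hqb
  by_contra hno
  push Not at hno
  have hv0 : v ≠ 0 := by
    rintro rfl
    exact Cfsg.Agent.MonsterU.InvPair.not_zero_two hv
  have hvq : bf v q = 0 := by rw [Cfsg.Agent.MonsterU.Lam2.bf_comm]; exact hqb
  -- singular solutions are of type 2
  have key : ∀ x, bf x v = 1 → bf x q = 0 → qf x = 0 → IsType 2 x := by
    intro x h1 h2 h3
    rcases type_cases x with h | h | h | h
    · rw [h, bf_zero_left] at h1
      exact absurd h1 zero_ne_one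
    · exact h
    · rw [Cfsg.Agent.H692.TwoB.qf_three h] at h3
      exact absurd h3 one_ne_zero
    · exact absurd h2 (hno x h h1)
  have hfin2 : Finite {x : L2 // IsType 2 x} := inferInstance
  let F : {x : L2 // bf x v = 1 ∧ bf x q = 0} → {x : L2 // IsType 2 x} × Bool := fun x =>
    if h : qf (x : L2) = 0 then (⟨x, key x x.2.1 x.2.2 h⟩, true)
    else (⟨(x : L2) + v, key _ (by rw [bf_add_left, x.2.1, bf_self, add_zero])
      (by rw [bf_add_left, x.2.2, hvq, add_zero]) (by
        rw [qf_add, qf_two hv, x.2.1, add_zero]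
        rcases z2_cases (qf (x : L2)) with h' | h'
        · exact absurd h' h
        · rw [h']; rfl)⟩, false)
  have hF : Function.Injective F := by
    intro x y hxy
    by_cases hx : qf (x : L2) = 0 <;> by_cases hy : qf (y : L2) = 0
    · simp only [F, dif_pos hx, dif_pos hy, Prod.mk.injEq, Subtype.mk.injEq, and_true] at hxy
      exact Subtype.ext hxy
    · simp [F, dif_pos hx, dif_neg hy] at hxy
    · simp [F, dif_neg hx, dif_pos hy] at hxy
    · simp only [F, dif_neg hx, dif_neg hy, Prod.mk.injEq, Subtype.mk.injEq, and_true] at hxy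
      exact Subtype.ext (add_right_cancel hxy)
  have h1 := Nat.card_le_card_of_injective F hF
  rw [Nat.card_prod] at h1
  have h2 : Nat.card {x : L2 // IsType 2 x} ≤ 196560 := ncard_two
  have h3 := card_sol hv0 hq hqv
  have h5 : Nat.card Bool = 2 := by simp
  rw [h5] at h1
  have h6 : (2 : ℕ) ^ 22 ≤ 196560 * 2 := h3.trans (h1.trans (Nat.mul_le_mul_right 2 h2))
  norm_num at h6

/-- the pairs `(w, t)` -/
theorem cp {w t u : MG} (hw : IsConj zz w) (ht : LThreeB.Row.TA t) (hc : w * t = t * w)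
    (hwt : LThreeB.Row.TA (w * t)) (hu : u ∈ QQ) (h2 : IsType 2 (eta u)) :
    ∃ k : MG, k * w * k⁻¹ = zz ∧ k * t * k⁻¹ = u :=
  Cfsg.Agent.H705.TwoB.Pair.conj_pair hw ht hc hwt hu h2

/-- **The 2-elements of `C(t)` are commutators.** -/
theorem two_ok {t : MG} (ht : LThreeB.Row.TA t) {g : MG}
    (hgt : g * t = t * g) (hg : ∃ k : ℕ, orderOf g = 2 ^ k) :
    ∃ a b : MG, a * t = t * a ∧ b * t = t * b ∧ g = a * b * a⁻¹ * b⁻¹ :=
  two_elt Cfsg.Agent.H258.TwoB.hTab h23 h4 ht hgt hg

/-- **Elements of order three** commuting with a conjugate `w` of `z` with `w t` of class 2A. -/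
theorem three_ok {x t w : MG} (hx : orderOf x = 3) (ht : LThreeB.Row.TA t) (hxt : x * t = t * x) (hw : IsConj zz w)
    (hwx : w * x = x * w) (hwt : w * t = t * w) (hta : LThreeB.Row.TA (w * t)) :
    (∃ a b : MG, a * t = t * a ∧ b * t = t * b ∧ x = a * b * a⁻¹ * b⁻¹) ∧
    (∃ a b : MG, a * t = t * a ∧ b * t = t * b ∧ x * t = a * b * a⁻¹ * b⁻¹) :=
  three_elt Cfsg.Agent.H258.TwoB.hTab h23 h4 (fun hw ht hc hwt hu h2 => cp hw ht hc hwt hu h2) hx ht hxt hw hwx hwt hta

end Cfsg.Agent.H658.TwoB
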