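import Cfsg.Agent.H658.TwoB.Cent

/-!
# Commutators in `C(z) ∩ C(u)`: the elements of `Q` (helper658, row 2.B of S2491/S2492)

`cent_in` : an element of `Q` commuting with `u` is a commutator of elements of `C(z) ∩ C(u)`.
-/

set_option autoImplicit false

namespace Cfsg.Agent.H658.TwoB

open Cfsg Module
open Cfsg.Agent.H6.ORE
open Cfsg.Agent.MonsterU.Ch (Chart)
open Cfsg.Agent.MonsterU.Lam2 (L2 IsType bf qf qf_add bf_add_left bf_add_right bf_comm bf_zero_left bf_zero_right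
  bf_nondeg bf_smul1 bf_self qf_smul1 card_L2)
open Cfsg.Agent.LThreeMB (bL bL_apply fr)
open Cfsg.Spor (Co1)

theorem z2_cases : ∀ c : ZMod 2, c = 0 ∨ c = 1 := by decide

/-- a vector orthogonal to `v` but not to `x` -/
theorem exists_perp {v x : L2} (hv : v ≠ 0) (hx0 : x ≠ 0) (hxv : x ≠ v) : ∃ w, bf w v = 0 ∧ bf w x = 1 := by
  by_contra hno
  push Not at hno
  rcases perp_of_hyper bL (fun u hu => bf_nondeg hu) (ρ := v) hv (d := x) (fun w hw => by
    have h1 : bf w v = 0 := by rw [bf_comm]; exact hw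
    rw [bL_apply, bf_comm]
    exact (z2_cases _).resolve_right (hno w h1)) with h | h
  · exact hx0 h
  · exact hxv h

/-- the image of `1 + y` -/
theorem exists_pre {v x q : L2} {y : Co1} (hy : orderOf y = 23) (hv2 : IsType 2 v) (hv : y • v = v) (hx : y • x = x)
    (hxv : bf x v = 1) (hqv : bf q v = 0) (hqx : bf q x = 0) : ∃ w, bf w v = 0 ∧ w + y • w = q := by
  have h1 : ∃ w, w + y • w = q := by
    let φ : L2 →ₗ[ZMod 2] L2 := LinearMap.id + (act1 y).toLinearMap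
    have hφ : ∀ w, φ w = w + y • w := fun _ => rfl
    by_contra hno
    have hne : q ∉ LinearMap.range φ := by
      rintro ⟨w, hw⟩
      exact hno ⟨w, hw⟩
    obtain ⟨f, hf, hle⟩ := Submodule.exists_dual_map_eq_bot_of_notMem hne inferInstance
    have hf0 : ∀ w, f (w + y • w) = 0 := by
      intro w
      have : f (φ w) ∈ (LinearMap.range φ).map f := ⟨φ w, ⟨w, rfl⟩, rfl⟩
      rwa [hle, Submodule.mem_bot] at this
    have hinj : Function.Injective bL := by
      rw [injective_iff_map_eq_zero]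
      intro u hu
      apply bf_nondeg
      intro w
      rw [← bL_apply, hu]; rfl
    have hfd : FiniteDimensional (ZMod 2) L2 := Module.Finite.of_finite
    have hsurj : Function.Surjective bL := by
      have hfr : finrank (ZMod 2) L2 = finrank (ZMod 2) (L2 →ₗ[ZMod 2] ZMod 2) :=
        (Subspace.dual_finrank_eq (K := ZMod 2) (V := L2)).symm
      exact (LinearMap.injective_iff_surjective_of_finrank_eq_finrank hfr).1 hinj
    obtain ⟨t, ht⟩ := hsurj f
    have ht' : ∀ w, f w = bf t w := fun w => by rw [← ht, bL_apply]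
    have hty : y • t = t := by
      apply eq_of_add
      apply bf_nondeg
      intro w
      obtain ⟨w, rfl⟩ : ∃ w', y • w' = w := ⟨y⁻¹ • w, smul_inv_smul y w⟩
      have := hf0 w
      rw [bf_add_left, bf_smul1, ← bf_add_right, ← ht']
      exact this
    have hfix : ∀ s : L2, y • s = s → bf s v = 0 → bf s q = 0 := by
      intro s hs hsv
      rcases fix23 hy hv2 hv hs hsv with h | h
      · rw [h, bf_zero_left]
      · rw [h, bf_comm, hqv]
    apply hf
    rw [ht']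
    rcases z2_cases (bf t v) with h | h
    · exact hfix t hty h
    · have h2 : bf (t + x) q = 0 := by
        apply hfix
        · rw [smul_add, hty, hx]
        · rw [bf_add_left, h, hxv]; rfl
      rw [bf_add_left, bf_comm x, hqx, add_zero] at h2
      exact h2
  obtain ⟨w, hw⟩ := h1
  rcases z2_cases (bf w v) with h | h
  · exact ⟨w, h, hw⟩
  · refine ⟨w + x, by rw [bf_add_left, h, hxv]; rfl, ?_⟩
    rw [smul_add, hx, ← hw]
    have e : w + x + (y • w + x) = w + y • w + (x + x) := by abel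
    rw [e, add_self', add_zero]

section

variable {G : Type} [Group G] {Q : Subgroup G} {z : G} {eta : G → L2}
  {pi : Subgroup.centralizer ({z} : Set G) →* Co1}

/-- the property to be proved -/
def CommU (z u : G) (g : G) : Prop := ∃ a b : G, a * z = z * a ∧ b * z = z * b ∧ a * u = u * a ∧ b * u = u * b ∧
  g = a * b * a⁻¹ * b⁻¹

theorem mem_u_iff (h : Chart Q z eta pi) {u q : G} (hu : u ∈ Q) (hq : q ∈ Q) :
    q * u = u * q ↔ bf (eta q) (eta u) = 0 := h.comm_iff hq hu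

/-- a commutator of an element of `Q` and an element of the centralizer -/
theorem eta_comm (h : Chart Q z eta pi) {w : G} (hw : w ∈ Q) (c : CZ z) :
    w * c * w⁻¹ * (c : G)⁻¹ ∈ Q ∧ eta (w * c * w⁻¹ * (c : G)⁻¹) = eta w + pi c • eta w := by
  have hcz := Subgroup.mem_centralizer_singleton_iff.1 c.2
  have h1 : (c : G) * w⁻¹ * (c : G)⁻¹ ∈ Q := h.large.conj_mem c hcz _ (Q.inv_mem hw)
  have e : w * c * w⁻¹ * (c : G)⁻¹ = w * (c * w⁻¹ * (c : G)⁻¹) := by group
  rw [e]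
  refine ⟨Q.mul_mem hw h1, ?_⟩
  rw [h.eta_mul _ hw _ h1, h.eta_conj c _ (Q.inv_mem hw), h.eta_inv hw]

theorem CommU.conj {z u g s : G} (hz : s * z = z * s) (hu : s * u = u * s) (h : CommU z u (s * g * s⁻¹)) :
    CommU z u g := by
  obtain ⟨a, b, az, bz, au, bu, e⟩ := h
  have key : ∀ {t c : G}, s * t = t * s → c * t = t * c → (s⁻¹ * c * s) * t = t * (s⁻¹ * c * s) := by
    intro t c h1 h2
    have h3 : s⁻¹ * t = t * s⁻¹ := by
      calc s⁻¹ * t = s⁻¹ * (t * s) * s⁻¹ := by group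
        _ = s⁻¹ * (s * t) * s⁻¹ := by rw [h1]
        _ = t * s⁻¹ := by group
    calc s⁻¹ * c * s * t = s⁻¹ * c * (s * t) := by group
      _ = s⁻¹ * (c * t) * s := by rw [h1]; group
      _ = (s⁻¹ * t) * c * s := by rw [h2]; group
      _ = t * (s⁻¹ * c * s) := by rw [h3]; group
  refine ⟨s⁻¹ * a * s, s⁻¹ * b * s, key hz az, key hz bz, key hu au, key hu bu, ?_⟩
  calc g = s⁻¹ * (s * g * s⁻¹) * s := by group
    _ = _ := by rw [e]; group

/-- elements of `Q` which are not in `⟨z, u⟩` -/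
theorem comm_out (h : Chart Q z eta pi) {u : G} (hu : u ∈ Q) (hv : IsType 2 (eta u))
    (H23 : ∀ x : L2, IsType 4 x → bf x (eta u) = 1 → ∃ y : Co1, orderOf y = 23 ∧ y • x = x ∧ y • eta u = eta u)
    (Hc : ∀ q : L2, q ≠ 0 → q ≠ eta u → bf q (eta u) = 0 → ∃ x : L2, IsType 4 x ∧ bf x (eta u) = 1 ∧ bf x q = 0)
    {q : G} (hq : q ∈ Q) (hqu : q * u = u * q) (hq0 : eta q ≠ 0) (hqv : eta q ≠ eta u) : CommU z u q := by
  have hv0 : eta u ≠ 0 := by
    intro e
    rw [e] at hv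
    exact Cfsg.Agent.MonsterU.InvPair.not_zero_two hv
  have hb := (mem_u_iff h hu hq).1 hqu
  obtain ⟨x, hx4, hxv, hxq⟩ := Hc _ hq0 hqv hb
  obtain ⟨y, hy, hyx, hyv⟩ := H23 x hx4 hxv
  obtain ⟨w, hwv, hw⟩ := exists_pre hy hv hyv hyx hxv hb (by rw [bf_comm]; exact hxq)
  obtain ⟨c, hc, hcu⟩ := exists_lift h hu hv0 hyv
  obtain ⟨w', hw', rfl⟩ := h.eta_surj w
  have hwu : w' * u = u * w' := (mem_u_iff h hu hw').2 hwv
  have h1 := eta_comm h hw' c
  rw [hc, hw] at h1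
  have hcom : CommU z u (w' * c * w'⁻¹ * (c : G)⁻¹) := ⟨w', c, h.large.comm_z w' hw',
    Subgroup.mem_centralizer_singleton_iff.1 c.2, hwu, hcu, rfl⟩
  rcases (h.eta_eq h1.1 hq).1 h1.2 with h2 | h2
  · rw [← h2]; exact hcom
  · obtain ⟨s0, hs0, hs1⟩ := exists_perp hv0 hq0 hqv
    obtain ⟨s, hs, rfl⟩ := h.eta_surj s0
    have h3 : s * q = q * s * z := (h.comm_z_iff hs hq).2 hs1
    have hsz := h.large.comm_z s hs
    refine CommU.conj hsz ((mem_u_iff h hu hs).2 hs0) ?_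
    have h4 : s * q * s⁻¹ = q * z := by
      rw [h3, mul_assoc, mul_assoc]
      have : z * s⁻¹ = s⁻¹ * z := (h.large.comm_z s⁻¹ (Q.inv_mem hs)).symm
      rw [this, ← mul_assoc s, mul_inv_cancel, one_mul]
    rw [h4, ← h2]
    exact hcom

/-- **The elements of `Q`.** -/
theorem cent_in (h : Chart Q z eta pi) {u : G} (hu : u ∈ Q) (hv : IsType 2 (eta u))
    (H23 : ∀ x : L2, IsType 4 x → bf x (eta u) = 1 → ∃ y : Co1, orderOf y = 23 ∧ y • x = x ∧ y • eta u = eta u)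
    (Hc : ∀ q : L2, q ≠ 0 → q ≠ eta u → bf q (eta u) = 0 → ∃ x : L2, IsType 4 x ∧ bf x (eta u) = 1 ∧ bf x q = 0)
    (Hk : ∃ k : Co1, k • eta u = eta u ∧ ∃ w : L2, w + k • w = eta u)
    {q : G} (hq : q ∈ Q) (hqu : q * u = u * q) : CommU z u q := by
  have hv0 : eta u ≠ 0 := by
    intro e
    rw [e] at hv
    exact Cfsg.Agent.MonsterU.InvPair.not_zero_two hv
  obtain ⟨k, hk, w, hw⟩ := Hk
  have hwv : bf w (eta u) = 0 := by rw [bf_comm]; exact bf_of_add (qf_two hv) hw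
  have hw0 : w ≠ 0 := by
    rintro rfl
    rw [smul_zero, add_zero] at hw
    exact hv0 hw.symm
  have hwv' : w ≠ eta u := by
    rintro rfl
    rw [hk, add_self'] at hw
    exact hv0 hw.symm
  obtain ⟨s0, hs0, hs1⟩ := exists_perp hv0 hw0 hwv'
  obtain ⟨w', hw', hww⟩ := h.eta_surj w
  obtain ⟨s, hs, hss⟩ := h.eta_surj s0
  have hwu : w' * u = u * w' := (mem_u_iff h hu hw').2 (by rw [hww]; exact hwv)
  have hsu : s * u = u * s := (mem_u_iff h hu hs).2 (by rw [hss]; exact hs0)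
  have hwz := h.large.comm_z w' hw'
  have hsz := h.large.comm_z s hs
  have hsw : w' * s = s * w' * z := (h.comm_z_iff hw' hs).2 (by rw [hww, hss, bf_comm]; exact hs1)
  -- `z`
  have hzc : w' * s * w'⁻¹ * s⁻¹ = z := by
    rw [hsw]
    have e1 : z * w'⁻¹ = w'⁻¹ * z := (h.large.comm_z w'⁻¹ (Q.inv_mem hw')).symm
    have e2 : z * s⁻¹ = s⁻¹ * z := (h.large.comm_z s⁻¹ (Q.inv_mem hs)).symm
    calc s * w' * z * w'⁻¹ * s⁻¹ = s * w' * (z * w'⁻¹) * s⁻¹ := by group
      _ = s * (z * s⁻¹) := by rw [e1]; group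
      _ = z := by rw [e2]; group
  by_cases hq0 : eta q = 0
  · rcases (h.eta_zero q hq).1 hq0 with rfl | rfl
    · exact ⟨1, 1, by simp, by simp, by simp, by simp, by simp⟩
    · exact ⟨w', s, hwz, hsz, hwu, hsu, hzc.symm⟩
  by_cases hqv : eta q = eta u
  · -- `u` and `u z`
    obtain ⟨c, hc, hcu⟩ := exists_lift h hu hv0 hk
    have hcz : (c : G) * z = z * c := Subgroup.mem_centralizer_singleton_iff.1 c.2
    have h1 := eta_comm h hw' c
    rw [hc, hww, hw, ← hqv] at h1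
    rcases (h.eta_eq h1.1 hq).1 h1.2 with h2 | h2
    · exact ⟨w', c, hwz, hcz, hwu, hcu, h2.symm⟩
    · -- `[w', c s] = [w', c] z`
      refine ⟨w', c * s, hwz, by rw [mul_assoc, hsz, ← mul_assoc, hcz, mul_assoc], hwu,
        by rw [mul_assoc, hsu, ← mul_assoc, hcu, mul_assoc], ?_⟩
      have hzz : z * z = 1 := h.large.z_sq
      have e3 : s * w'⁻¹ * s⁻¹ = w'⁻¹ * z := by
        calc s * w'⁻¹ * s⁻¹ = w'⁻¹ * (w' * s * w'⁻¹ * s⁻¹) := by group
          _ = w'⁻¹ * z := by rw [hzc]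
      have e4 : z * (c : G)⁻¹ = (c : G)⁻¹ * z := by
        calc z * (c : G)⁻¹ = (c : G)⁻¹ * (c * z) * (c : G)⁻¹ := by group
          _ = (c : G)⁻¹ * (z * c) * (c : G)⁻¹ := by rw [hcz]
          _ = (c : G)⁻¹ * z := by group
      calc q = q * z * z := by rw [mul_assoc, hzz, mul_one]
        _ = w' * c * w'⁻¹ * (c : G)⁻¹ * z := by rw [← h2]
        _ = w' * c * w'⁻¹ * (z * (c : G)⁻¹) := by rw [e4]; group
        _ = w' * c * (s * w'⁻¹ * s⁻¹) * (c : G)⁻¹ := by rw [e3]; group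
        _ = w' * (c * s) * w'⁻¹ * (c * s)⁻¹ := by group
  exact comm_out h hu hv H23 Hc hq hqu hq0 hqv

/-- **The elements of `C(z) ∩ C(u)`.** -/
theorem cent_all (h : Chart Q z eta pi) {u : G} (hu : u ∈ Q) (hv : IsType 2 (eta u))
    (H23 : ∀ x : L2, IsType 4 x → bf x (eta u) = 1 → ∃ y : Co1, orderOf y = 23 ∧ y • x = x ∧ y • eta u = eta u)
    (Hc : ∀ q : L2, q ≠ 0 → q ≠ eta u → bf q (eta u) = 0 → ∃ x : L2, IsType 4 x ∧ bf x (eta u) = 1 ∧ bf x q = 0)
    (Hk : ∃ k : Co1, k • eta u = eta u ∧ ∃ w : L2, w + k • w = eta u)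
    {g : CZ z} (hgu : (g : G) * u = u * g) (hF : pi g ≠ 1 → F23h (eta u) (pi g))
    (hfr : pi g ≠ 1 → fr (pi g) ≤ 2 ^ 21) : CommU z u (g : G) := by
  by_cases h1 : pi g = 1
  · exact cent_in h hu hv H23 Hc Hk ((h.pi_eq_one g).1 h1) hgu
  · obtain ⟨a, b, ha, hb, e⟩ := cent_out h hu hv hgu (hF h1) (hfr h1)
    exact ⟨a, b, Subgroup.mem_centralizer_singleton_iff.1 a.2, Subgroup.mem_centralizer_singleton_iff.1 b.2, ha, hb,
      congrArg Subtype.val e⟩

end

end Cfsg.Agent.H658.TwoB
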