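import Cfsg.Agent.H6.ORE.Extra

/-!
# The extraspecial coset lemma in the centralizer of an element of `Q` (helper658, row 2.B of S2491/S2492)

`rank_lemma2` : the linear algebra of `H6.ORE.rank_lemma` on the hyperplane `ρ^⊥`.
-/

set_option autoImplicit false

namespace Cfsg.Agent.H658.TwoB

open Module Cfsg.Agent.H6.ORE

universe u

theorem rank_lemma2 {V : Type*} [AddCommGroup V] [Module (ZMod 2) V] [FiniteDimensional (ZMod 2) V]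
    (ω : LinearMap.BilinForm (ZMod 2) V) (hnd : ω.Nondegenerate) (hs : ∀ x y, ω x y = ω y x)
    (α β β' γ : V ≃ₗ[ZMod 2] V) (hα : ∀ x y, ω (α x) (α y) = ω x y)
    (hβ' : ∀ x y, ω (β' x) (β' y) = ω x y) (hγ : ∀ x y, ω (γ x) (γ y) = ω x y)
    (e1 : ∀ x, β' (α x) = α (β x)) (e2 : ∀ x, γ (β x) = β' x)
    {ρ : V} (hρ : ρ ≠ 0) (_hρρ : ω ρ ρ = 0) (rα : α ρ = ρ) (rβ : β ρ = ρ) (rβ' : β' ρ = ρ) (rγ : γ ρ = ρ)
    (hφ : ∀ w, ω ρ w = 0 → ∃ r₁ r₂, ω ρ r₁ = 0 ∧ ω ρ r₂ = 0 ∧ r₁ + β' r₁ + (α r₂ + γ r₂) = w)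
    (hB : ∀ q₁ q₂ r₁ r₂, ω ρ q₁ = 0 → ω ρ q₂ = 0 → ω ρ r₁ = 0 → ω ρ r₂ = 0 →
      q₁ + β' q₁ + (α q₂ + γ q₂) = 0 → r₁ + β' r₁ + (α r₂ + γ r₂) = 0 →
      ω q₁ (α r₂) + ω (β' r₁) (γ q₂) = 0) :
    finrank (ZMod 2) V ≤ finrank (ZMod 2) (LinearMap.ker (γ.toLinearMap - LinearMap.id)) + 2 := by
  classical
  have two : ∀ v : V, v + v = 0 := by
    intro v
    have : (2 : ZMod 2) • v = 0 := by
      rw [show (2 : ZMod 2) = 0 from rfl, zero_smul]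
    rwa [two_smul] at this
  have cancel : ∀ {u v : V}, u + v = 0 → u = v := by
    intro u v h
    have := congrArg (fun t => t + v) h
    simpa [add_assoc, two] using this
  have c2 : ∀ c : ZMod 2, c = 0 ∨ c = 1 := by decide
  -- invariance of the hyperplane
  have iα : ∀ x, ω ρ (α x) = ω ρ x := fun x => by conv_lhs => rw [← rα]; exact hα ρ x
  have iβ' : ∀ x, ω ρ (β' x) = ω ρ x := fun x => by conv_lhs => rw [← rβ']; exact hβ' ρ x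
  have iγ : ∀ x, ω ρ (γ x) = ω ρ x := fun x => by conv_lhs => rw [← rγ]; exact hγ ρ x
  let W : Submodule (ZMod 2) V := LinearMap.ker (ω ρ)
  have hW : ∀ x, x ∈ W ↔ ω ρ x = 0 := fun x => LinearMap.mem_ker
  -- a vector orthogonal to the hyperplane
  have perp : ∀ d : V, (∀ w, ω ρ w = 0 → ω d w = 0) → ∃ c : ZMod 2, d = c • ρ := by
    intro d hd
    have h0 : ∃ v₀, ω ρ v₀ = 1 := by
      by_contra hno
      push Not at hno
      exact hρ (hnd.1 ρ fun w => (c2 _).resolve_right (hno w))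
    obtain ⟨v₀, hv₀⟩ := h0
    refine ⟨ω d v₀, ?_⟩
    have h1 : ∀ w, ω (d - (ω d v₀) • ρ) w = 0 := by
      intro w
      rw [map_sub, LinearMap.sub_apply, map_smul, LinearMap.smul_apply, smul_eq_mul]
      have h2 : ω d (w - (ω ρ w) • v₀) = 0 := by
        apply hd
        rw [map_sub, map_smul, smul_eq_mul, hv₀, mul_one, sub_self]
      rw [map_sub, map_smul, smul_eq_mul] at h2
      linear_combination h2
    exact sub_eq_zero.1 (hnd.1 _ h1)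
  -- the map φ
  let φ₀ : W × W →ₗ[ZMod 2] V :=
    (LinearMap.id + β'.toLinearMap).comp (W.subtype.comp (LinearMap.fst _ W W))
      + (α.toLinearMap + γ.toLinearMap).comp (W.subtype.comp (LinearMap.snd _ W W))
  have hφ₀ : ∀ r : W × W, φ₀ r = (r.1 : V) + β' r.1 + (α r.2 + γ r.2) := fun r => rfl
  have hφW : ∀ r : W × W, φ₀ r ∈ W := by
    intro r
    rw [hW, hφ₀, map_add, map_add, map_add, iβ', iα, iγ, (hW _).1 r.1.2, (hW _).1 r.2.2]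
    simp
  let φ : W × W →ₗ[ZMod 2] W := φ₀.codRestrict W hφW
  have hφa : ∀ r : W × W, (φ r : V) = (r.1 : V) + β' r.1 + (α r.2 + γ r.2) := fun r => rfl
  have hsurj : Function.Surjective φ := by
    rintro ⟨w, hw⟩
    obtain ⟨r₁, r₂, h1, h2, h3⟩ := hφ w ((hW w).1 hw)
    exact ⟨(⟨r₁, (hW _).2 h1⟩, ⟨r₂, (hW _).2 h2⟩), Subtype.ext h3⟩
  let F : Submodule (ZMod 2) V := LinearMap.ker (γ.toLinearMap - LinearMap.id)
  have hF : ∀ x, x ∈ F ↔ γ x = x := by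
    intro x
    rw [LinearMap.mem_ker]
    simp [sub_eq_zero]
  -- key inclusion
  have key : ∀ q ∈ LinearMap.ker φ, ∃ x, γ x = x ∧ ∃ s t : ZMod 2,
      (q.1 : V) = x + α x + s • ρ ∧ (q.2 : V) = x + β x + t • ρ := by
    intro q hq
    let ℓ : W × W →ₗ[ZMod 2] ZMod 2 :=
      ((ω q.1).comp α.toLinearMap).comp (W.subtype.comp (LinearMap.snd _ W W))
        + ((ω (γ q.2)).comp β'.toLinearMap).comp (W.subtype.comp (LinearMap.fst _ W W))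
    have hℓa : ∀ r : W × W, ℓ r = ω q.1 (α r.2) + ω (γ q.2) (β' r.1) := fun r => rfl
    have hker : ∀ r ∈ LinearMap.ker φ, (r.1 : V) + β' r.1 + (α r.2 + γ r.2) = 0 := by
      intro r hr
      have h1 : φ r = 0 := hr
      rw [← hφa, h1]
      rfl
    have hℓ : ∀ r ∈ LinearMap.ker φ, ℓ r = 0 := by
      intro r hr
      rw [hℓa, hs (γ q.2)]
      exact hB q.1 q.2 r.1 r.2 q.1.2 q.2.2 r.1.2 r.2.2 (hker q hq) (hker r hr)
    have h1 : ℓ ∈ LinearMap.range φ.dualMap := by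
      rw [LinearMap.range_dualMap_eq_dualAnnihilator_ker, Submodule.mem_dualAnnihilator]
      exact hℓ
    obtain ⟨lam, hlam⟩ := h1
    obtain ⟨lam', hlam'⟩ := LinearMap.exists_extend (p := W) lam
    obtain ⟨x, hx⟩ : ∃ x, ∀ v, ω x v = lam' v := by
      refine ⟨(ω.toDual hnd).symm lam', fun v => ?_⟩
      exact LinearMap.BilinForm.apply_toDual_symm_apply (B := ω) (hB := hnd) lam' v
    have h2 : ∀ r : W × W, ω q.1 (α r.2) + ω (γ q.2) (β' r.1) = ω x (φ r : V) := by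
      intro r
      rw [hx, ← hℓa, ← hlam]
      have : lam (φ r) = (lam'.comp W.subtype) (φ r) := by rw [hlam']
      exact this
    -- q₁
    obtain ⟨s, hs1⟩ : ∃ s : ZMod 2, (q.1 : V) - (x + α (γ.symm x)) = s • ρ := by
      apply perp
      intro w hw
      obtain ⟨w', rfl⟩ := α.surjective w
      have hw' : w' ∈ W := by rw [hW, ← iα]; exact hw
      have := h2 (0, ⟨w', hw'⟩)
      simp only [hφa, Submodule.coe_zero, map_zero, add_zero, zero_add] at this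
      rw [map_sub, LinearMap.sub_apply, this]
      simp only [map_add, LinearMap.add_apply]
      rw [hα]
      have h6 := hγ (γ.symm x) w'
      rw [LinearEquiv.apply_symm_apply] at h6
      rw [h6, sub_self]
    have hq1 : (q.1 : V) = x + α (γ.symm x) + s • ρ := by rw [← hs1]; abel
    obtain ⟨t, ht1⟩ : ∃ t : ZMod 2, γ (q.2 : V) - (x + β' x) = t • ρ := by
      apply perp
      intro w hw
      obtain ⟨w', rfl⟩ := β'.surjective w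
      have hw' : w' ∈ W := by rw [hW, ← iβ']; exact hw
      have := h2 (⟨w', hw'⟩, 0)
      simp only [hφa, Submodule.coe_zero, map_zero, add_zero, zero_add] at this
      rw [map_sub, LinearMap.sub_apply, this]
      simp only [map_add, LinearMap.add_apply]
      rw [hβ']
      ring
    have hq2 : γ (q.2 : V) = x + β' x + t • ρ := by rw [← ht1]; abel
    have rγ' : γ.symm ρ = ρ := by
      apply γ.injective
      rw [LinearEquiv.apply_symm_apply, rγ]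
    have hq2' : (q.2 : V) = γ.symm x + β x + t • ρ := by
      apply γ.injective
      rw [hq2, map_add, map_add, LinearEquiv.apply_symm_apply, e2, map_smul, rγ]
    have hq0 := hker q hq
    have hfix : γ.symm x = x := by
      rw [hq2, hq2', hq1] at hq0
      simp only [map_add, map_smul, rα, rβ'] at hq0
      rw [e1] at hq0
      have h5 : α (β (γ.symm x)) + α (β x) = 0 := by
        have e : x + α (γ.symm x) + s • ρ + (β' x + α (β (γ.symm x)) + s • ρ)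
              + (α (γ.symm x) + α (β x) + t • ρ + (x + β' x + t • ρ))
            = (x + x) + (α (γ.symm x) + α (γ.symm x)) + (β' x + β' x) + (s • ρ + s • ρ) + (t • ρ + t • ρ)
              + (α (β (γ.symm x)) + α (β x)) := by abel
        rw [e] at hq0
        simpa only [two, zero_add] using hq0
      exact β.injective (α.injective (cancel h5))
    have hfix' : γ x = x := by
      conv_lhs => rw [← hfix]
      exact LinearEquiv.apply_symm_apply γ x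
    exact ⟨x, hfix', s, t, by rw [hq1, hfix], by rw [hq2', hfix]⟩
  -- dimension count
  let Ψ : F × (ZMod 2 × ZMod 2) →ₗ[ZMod 2] V × V :=
    LinearMap.prod
      ((LinearMap.id + α.toLinearMap).comp (F.subtype.comp (LinearMap.fst _ F (ZMod 2 × ZMod 2)))
        + (LinearMap.toSpanSingleton (ZMod 2) V ρ).comp
          ((LinearMap.fst _ (ZMod 2) (ZMod 2)).comp (LinearMap.snd _ F (ZMod 2 × ZMod 2))))
      ((LinearMap.id + β.toLinearMap).comp (F.subtype.comp (LinearMap.fst _ F (ZMod 2 × ZMod 2)))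
        + (LinearMap.toSpanSingleton (ZMod 2) V ρ).comp
          ((LinearMap.snd _ (ZMod 2) (ZMod 2)).comp (LinearMap.snd _ F (ZMod 2 × ZMod 2))))
  have hΨ : ∀ x, Ψ x = ((x.1 : V) + α x.1 + x.2.1 • ρ, (x.1 : V) + β x.1 + x.2.2 • ρ) := fun x => rfl
  have hρF : ρ ∈ F := (hF ρ).2 rγ
  have hk0 : 1 ≤ finrank (ZMod 2) (LinearMap.ker Ψ) := by
    have h1 : ((⟨ρ, hρF⟩, (0, 0)) : F × (ZMod 2 × ZMod 2)) ∈ LinearMap.ker Ψ := by
      rw [LinearMap.mem_ker, hΨ]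
      simp only [zero_smul, rα, rβ, two]
      rfl
    have h2 : LinearMap.ker Ψ ≠ ⊥ := by
      intro h3
      rw [h3, Submodule.mem_bot] at h1
      exact hρ (congrArg (fun t : F × (ZMod 2 × ZMod 2) => (t.1 : V)) h1)
    exact Nat.one_le_iff_ne_zero.2 fun h3 => h2 (Submodule.finrank_eq_zero.1 h3)
  have hrΨ := LinearMap.finrank_range_add_finrank_ker Ψ
  rw [Module.finrank_prod, Module.finrank_prod, Module.finrank_self] at hrΨ
  let j : W × W →ₗ[ZMod 2] V × V := LinearMap.prodMap W.subtype W.subtype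
  have hj : Function.Injective j := by
    intro a b hab
    have h1 : (a.1 : V) = b.1 := congrArg Prod.fst hab
    have h2 : (a.2 : V) = b.2 := congrArg Prod.snd hab
    exact Prod.ext (Subtype.ext h1) (Subtype.ext h2)
  have hle : (LinearMap.ker φ).map j ≤ LinearMap.range Ψ := by
    rintro _ ⟨q, hq, rfl⟩
    obtain ⟨x, hx, s, t, h1, h2⟩ := key q hq
    exact ⟨(⟨x, (hF x).2 hx⟩, (s, t)), by rw [hΨ]; exact (Prod.ext h1 h2).symm⟩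
  have h1 : finrank (ZMod 2) (LinearMap.ker φ) ≤ finrank (ZMod 2) (LinearMap.range Ψ) := by
    rw [LinearEquiv.finrank_eq (Submodule.equivMapOfInjective j hj (LinearMap.ker φ))]
    exact Submodule.finrank_mono hle
  have h2 := LinearMap.finrank_range_add_finrank_ker φ
  rw [LinearMap.range_eq_top.2 hsurj, finrank_top, Module.finrank_prod] at h2
  have h3 := LinearMap.finrank_range_add_finrank_ker (ω ρ)
  have h4 : finrank (ZMod 2) (LinearMap.range (ω ρ)) ≤ 1 := by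
    have := Submodule.finrank_le (LinearMap.range (ω ρ))
    rwa [Module.finrank_self] at this
  have h5 : finrank (ZMod 2) (LinearMap.ker (ω ρ)) = finrank (ZMod 2) W := rfl
  have h6 : finrank (ZMod 2) F = finrank (ZMod 2) (LinearMap.ker (γ.toLinearMap - LinearMap.id)) := rfl
  omega


/-- the part of `ES` which survives in the centralizer of an element of `Q` -/
structure EW {H : Type*} [Group H] (Q : Subgroup H) (z : H) : Prop where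
  normal : Q.Normal
  mem : z ∈ Q
  sq : z * z = 1
  central : ∀ h : H, h * z = z * h
  comm : ∀ x ∈ Q, ∀ y ∈ Q, x * y = y * x ∨ x * y = y * x * z

section
variable {H : Type u} [Group H] {Q : Subgroup H} {z : H}

theorem EW.mem_zpowers (h : EW Q z) {x : H} : x ∈ Subgroup.zpowers z ↔ x = 1 ∨ x = z := by
  constructor
  · rintro ⟨n, rfl⟩
    have h2 : z ^ (2 : ℤ) = 1 := by
      rw [zpow_two]; exact h.sq
    rcases Int.even_or_odd' n with ⟨k, hk | hk⟩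
    · left
      show z ^ n = 1
      rw [hk, zpow_mul, h2, one_zpow]
    · right
      show z ^ n = z
      rw [hk, zpow_add, zpow_mul, h2, one_zpow, one_mul, zpow_one]
  · rintro (rfl | rfl)
    · exact Subgroup.one_mem _
    · exact Subgroup.mem_zpowers _

theorem EW.normal_zpowers (h : EW Q z) : (Subgroup.zpowers z).Normal := by
  refine ⟨fun x hx g => ?_⟩
  rw [h.mem_zpowers] at hx ⊢
  rcases hx with rfl | rfl
  · left; simp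
  · right; rw [h.central]; simp

/-- the coset lemma modulo `z` -/
theorem EW.step_mod (h : EW Q z) {a b c : H} (hfp : FPz Q z a b)
    (hc : c * (a * b * a⁻¹ * b⁻¹)⁻¹ ∈ Q) :
    ∃ q₁ ∈ Q, ∃ q₂ ∈ Q, ∃ ζ : H, (ζ = 1 ∨ ζ = z) ∧
      c * ζ = (q₁ * a) * (q₂ * b) * (q₁ * a)⁻¹ * (q₂ * b)⁻¹ := by
  have hn := h.normal
  have hz := h.normal_zpowers
  let π : H →* H ⧸ Subgroup.zpowers z := QuotientGroup.mk' _
  have hπs : Function.Surjective π := QuotientGroup.mk'_surjective _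
  have hπk : ∀ x, π x = 1 ↔ (x = 1 ∨ x = z) := by
    intro x
    rw [← h.mem_zpowers]
    exact QuotientGroup.eq_one_iff x
  have hπz : π z = 1 := (hπk z).2 (Or.inr rfl)
  have hπe : ∀ x y, π x = π y → ∃ ζ : H, (ζ = 1 ∨ ζ = z) ∧ x * ζ = y := by
    intro x y hxy
    refine ⟨x⁻¹ * y, ?_, by group⟩
    rw [← hπk, map_mul, map_inv, hxy, inv_mul_cancel]
  have hAn : (Q.map π).Normal := hn.map π hπs
  have hAc : ∀ x ∈ Q.map π, ∀ y ∈ Q.map π, x * y = y * x := by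
    rintro _ ⟨x, hx, rfl⟩ _ ⟨y, hy, rfl⟩
    rw [← map_mul, ← map_mul]
    rcases h.comm x hx y hy with e | e
    · rw [e]
    · rw [e, map_mul π (y * x) z, hπz, mul_one]
  have hAf : FP (Q.map π) (π a) (π b) := by
    rintro _ ⟨w, hw, rfl⟩
    obtain ⟨u, hu, v, hv, ζ, hζ, e⟩ := hfp w hw
    refine ⟨π u, ⟨u, hu, rfl⟩, π v, ⟨v, hv, rfl⟩, ?_⟩
    rw [e, map_mul, (hπk ζ).2 hζ, mul_one]
    simp only [map_mul, map_inv]
  have hcA : π c * (π a * π b * (π a)⁻¹ * (π b)⁻¹)⁻¹ ∈ Q.map π := by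
    refine ⟨_, hc, ?_⟩
    simp only [map_mul, map_inv]
  obtain ⟨_, ⟨q₁, h₁, rfl⟩, _, ⟨q₂, h₂, rfl⟩, e⟩ := exists_comm_of_FP hAn hAc hAf hcA
  have e' : π c = π ((q₁ * a) * (q₂ * b) * (q₁ * a)⁻¹ * (q₂ * b)⁻¹) := by
    rw [e]; simp only [map_mul, map_inv]
  obtain ⟨ζ, hζ, e''⟩ := hπe _ _ e'
  exact ⟨q₁, h₁, q₂, h₂, ζ, hζ, e''⟩


/-- the centralizer of `ρ` -/
theorem ew_centralizer (h : ES Q z) (ρ : H) :
    EW (Q.subgroupOf (Subgroup.centralizer {ρ}))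
      (⟨z, by rw [Subgroup.mem_centralizer_singleton_iff]; exact (h.central ρ).symm⟩ :
        Subgroup.centralizer ({ρ} : Set H)) where
  normal := by
    have := h.normal
    exact Subgroup.normal_subgroupOf
  mem := h.mem
  sq := Subtype.ext h.sq
  central := fun g => Subtype.ext (h.central g)
  comm := by
    intro x hx y hy
    rcases h.comm x hx y hy with e | e
    · exact Or.inl (Subtype.ext e)
    · exact Or.inr (Subtype.ext e)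

/-- `FPz` inside the centralizer of `ρ` -/
def FPr (Q : Subgroup H) (z ρ a b : H) : Prop :=
  ∀ w ∈ Q, w * ρ = ρ * w → ∃ u ∈ Q, u * ρ = ρ * u ∧ ∃ v ∈ Q, v * ρ = ρ * v ∧
    ∃ ζ : H, (ζ = 1 ∨ ζ = z) ∧ w = u * (b * u * b⁻¹)⁻¹ * (v * (a * v * a⁻¹)⁻¹) * ζ

/-- the coset lemma modulo `z`, in the centralizer of `ρ` -/
theorem step_mod_r (h : ES Q z) {ρ a b c : H} (aρ : a * ρ = ρ * a) (bρ : b * ρ = ρ * b)
    (cρ : c * ρ = ρ * c) (hfp : FPr Q z ρ a b) (hc : c * (a * b * a⁻¹ * b⁻¹)⁻¹ ∈ Q) :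
    ∃ q₁ ∈ Q, q₁ * ρ = ρ * q₁ ∧ ∃ q₂ ∈ Q, q₂ * ρ = ρ * q₂ ∧ ∃ ζ : H, (ζ = 1 ∨ ζ = z) ∧
      c * ζ = (q₁ * a) * (q₂ * b) * (q₁ * a)⁻¹ * (q₂ * b)⁻¹ := by
  have hE := ew_centralizer h ρ
  have mc : ∀ x : H, x ∈ Subgroup.centralizer ({ρ} : Set H) ↔ x * ρ = ρ * x := fun x =>
    Subgroup.mem_centralizer_singleton_iff
  have hfp' : FPz (Q.subgroupOf (Subgroup.centralizer {ρ}))
      (⟨z, by rw [Subgroup.mem_centralizer_singleton_iff]; exact (h.central ρ).symm⟩ :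
        Subgroup.centralizer ({ρ} : Set H)) ⟨a, (mc a).2 aρ⟩ ⟨b, (mc b).2 bρ⟩ := by
    intro w hw
    obtain ⟨u, hu, uρ, v, hv, vρ, ζ, hζ, e⟩ := hfp w hw ((mc w).1 w.2)
    have hζρ : ζ * ρ = ρ * ζ := by
      rcases hζ with rfl | rfl
      · simp
      · exact (h.central ρ).symm
    refine ⟨⟨u, (mc u).2 uρ⟩, hu, ⟨v, (mc v).2 vρ⟩, hv, ⟨ζ, (mc ζ).2 hζρ⟩, ?_, Subtype.ext e⟩
    rcases hζ with e1 | e1
    · exact Or.inl (Subtype.ext e1)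
    · exact Or.inr (Subtype.ext e1)
  obtain ⟨q₁, h₁, q₂, h₂, ζ, hζ, e⟩ := hE.step_mod hfp' (c := ⟨c, (mc c).2 cρ⟩) hc
  refine ⟨q₁, h₁, (mc q₁).1 q₁.2, q₂, h₂, (mc q₂).1 q₂.2, ζ, ?_, congrArg Subtype.val e⟩
  rcases hζ with e1 | e1
  · exact Or.inl (congrArg Subtype.val e1)
  · exact Or.inr (congrArg Subtype.val e1)

theorem FPr.mul_left (h : ES Q z) {ρ a b p₁ p₂ : H} (hfp : FPr Q z ρ a b) (h₁ : p₁ ∈ Q) (h₂ : p₂ ∈ Q) :
    FPr Q z ρ (p₁ * a) (p₂ * b) := by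
  intro w hw hwρ
  obtain ⟨u, hu, uρ, v, hv, vρ, ζ, hζ, e⟩ := hfp w hw hwρ
  obtain ⟨ξ, hξ, e₁⟩ := h.conj_eq h₂ (h.conj_mem hu b)
  obtain ⟨η, hη, e₂⟩ := h.conj_eq h₁ (h.conj_mem hv a)
  refine ⟨u, hu, uρ, v, hv, vρ, ξ * η * ζ, h.zz (h.zz hξ hη) hζ, ?_⟩
  have e₁' : p₂ * b * u * (p₂ * b)⁻¹ = b * u * b⁻¹ * ξ := by rw [← e₁]; group
  have e₂' : p₁ * a * v * (p₁ * a)⁻¹ = a * v * a⁻¹ * η := by rw [← e₂]; group
  rw [e₁', e₂', mul_inv_rev (b * u * b⁻¹) ξ, mul_inv_rev (a * v * a⁻¹) η, h.zi hξ, h.zi hη, e]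
  have c₁ := h.zc hξ
  have c₂ := h.zc hη
  calc u * (b * u * b⁻¹)⁻¹ * (v * (a * v * a⁻¹)⁻¹) * ζ
      = u * (b * u * b⁻¹)⁻¹ * (v * (a * v * a⁻¹)⁻¹) * (ξ * ξ⁻¹) * (η * η⁻¹) * ζ := by group
    _ = u * (b * u * b⁻¹)⁻¹ * (v * (a * v * a⁻¹)⁻¹) * (ξ * ξ) * (η * η) * ζ := by
        rw [h.zi hξ, h.zi hη]
    _ = u * (b * u * b⁻¹)⁻¹ * ((v * (a * v * a⁻¹)⁻¹) * ξ) * (ξ * η) * (η * ζ) := by group
    _ = u * (b * u * b⁻¹)⁻¹ * (ξ * (v * (a * v * a⁻¹)⁻¹)) * (η * ξ) * (η * ζ) := by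
        rw [c₁ (v * (a * v * a⁻¹)⁻¹), c₁ η]
    _ = u * ((b * u * b⁻¹)⁻¹ * ξ) * (v * ((a * v * a⁻¹)⁻¹ * η)) * (ξ * η * ζ) := by group
    _ = u * (ξ * (b * u * b⁻¹)⁻¹) * (v * (η * (a * v * a⁻¹)⁻¹)) * (ξ * η * ζ) := by
        rw [c₁ (b * u * b⁻¹)⁻¹, c₂ (a * v * a⁻¹)⁻¹]

/-- **the extraspecial coset lemma in the centralizer of an element of `Q`** -/
theorem step_r (h : ES Q z) (D : VData Q z) {ρ a b c : H} (hρ : ρ ∈ Q) (hρ1 : ρ ≠ 1) (hρz : ρ ≠ z)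
    (aρ : a * ρ = ρ * a) (bρ : b * ρ = ρ * b) (cρ : c * ρ = ρ * c) (hfp : FPr Q z ρ a b)
    (hc : c * (a * b * a⁻¹ * b⁻¹)⁻¹ ∈ Q)
    (hact : letI := D.acg; letI := D.mod
      finrank (ZMod 2) (LinearMap.ker ((D.L c).toLinearMap - LinearMap.id)) + 3 ≤
        finrank (ZMod 2) D.V) :
    ∃ q₁ ∈ Q, q₁ * ρ = ρ * q₁ ∧ ∃ q₂ ∈ Q, q₂ * ρ = ρ * q₂ ∧
      c = (q₁ * a) * (q₂ * b) * (q₁ * a)⁻¹ * (q₂ * b)⁻¹ := by
  classical
  obtain ⟨p₁, hp₁, pρ₁, p₂, hp₂, pρ₂, ζ, hζ, e⟩ := step_mod_r h aρ bρ cρ hfp hc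
  rcases hζ with rfl | rfl
  · exact ⟨p₁, hp₁, pρ₁, p₂, hp₂, pρ₂, by rw [← e, mul_one]⟩
  by_contra hno
  push Not at hno
  have hfp' : FPr Q ζ ρ (p₁ * a) (p₂ * b) := hfp.mul_left h hp₁ hp₂
  have cm : ∀ {x y : H}, x * ρ = ρ * x → y * ρ = ρ * y → (x * y) * ρ = ρ * (x * y) := by
    intro x y h1 h2
    rw [mul_assoc, h2, ← mul_assoc, h1, mul_assoc]
  have ci : ∀ {x : H}, x * ρ = ρ * x → x⁻¹ * ρ = ρ * x⁻¹ := by
    intro x h1
    have := congrArg (fun t => x⁻¹ * t * x⁻¹) h1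
    simpa [mul_assoc] using this.symm
  have a₁ρ : (p₁ * a) * ρ = ρ * (p₁ * a) := cm pρ₁ aρ
  have b₁ρ : (p₂ * b) * ρ = ρ * (p₂ * b) := cm pρ₂ bρ
  obtain ⟨a₁, ha₁⟩ : ∃ a₁, a₁ = p₁ * a := ⟨_, rfl⟩
  obtain ⟨b₁, hb₁⟩ : ∃ b₁, b₁ = p₂ * b := ⟨_, rfl⟩
  have hno' : ∀ q₁ ∈ Q, q₁ * ρ = ρ * q₁ → ∀ q₂ ∈ Q, q₂ * ρ = ρ * q₂ →
      (q₁ * a₁) * (q₂ * b₁) * (q₁ * a₁)⁻¹ * (q₂ * b₁)⁻¹ ≠ c := by
    intro q₁ h₁ r₁ q₂ h₂ r₂ e'
    refine hno (q₁ * p₁) (Q.mul_mem h₁ hp₁) (cm r₁ pρ₁) (q₂ * p₂) (Q.mul_mem h₂ hp₂) (cm r₂ pρ₂) ?_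
    rw [← e', ha₁, hb₁]; group
  rw [← ha₁, ← hb₁] at e hfp'
  rw [← ha₁] at a₁ρ
  rw [← hb₁] at b₁ρ
  obtain ⟨c₁, hc₁⟩ : ∃ c₁, c₁ = a₁ * b₁ * a₁⁻¹ * b₁⁻¹ := ⟨_, rfl⟩
  obtain ⟨g, hg⟩ : ∃ g, g = a₁ * b₁ * a₁⁻¹ := ⟨_, rfl⟩
  have gρ : g * ρ = ρ * g := by rw [hg]; exact cm (cm a₁ρ b₁ρ) (ci a₁ρ)
  have c₁ρ : c₁ * ρ = ρ * c₁ := by rw [hc₁]; exact cm (cm (cm a₁ρ b₁ρ) (ci a₁ρ)) (ci b₁ρ)
  rw [← hc₁] at e
  -- the function Φ
  let Φ : Q → Q → H := fun r₁ r₂ => r₁ * (a₁ * r₂ * a₁⁻¹) * (g * r₁ * g⁻¹)⁻¹ * (c₁ * r₂ * c₁⁻¹)⁻¹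
  have hΦ : ∀ r₁ r₂ : Q, (r₁ * a₁) * (r₂ * b₁) * (r₁ * a₁)⁻¹ * (r₂ * b₁)⁻¹ = Φ r₁ r₂ * c₁ := by
    intro r₁ r₂
    show _ = r₁ * (a₁ * r₂ * a₁⁻¹) * (g * r₁ * g⁻¹)⁻¹ * (c₁ * r₂ * c₁⁻¹)⁻¹ * c₁
    rw [hc₁, hg]; group
  have hΦ1 : ∀ r₁ r₂ : Q, (r₁ : H) * ρ = ρ * r₁ → (r₂ : H) * ρ = ρ * r₂ →
      (Φ r₁ r₂ = 1 ∨ Φ r₁ r₂ = ζ) → Φ r₁ r₂ = 1 := by
    intro r₁ r₂ s₁ s₂ h'
    rcases h' with h' | h'
    · exact h'
    · exfalso
      refine hno' r₁ r₁.2 s₁ r₂ r₂.2 s₂ ?_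
      rw [hΦ, h', ← e, h.central c, ← mul_assoc, h.sq, one_mul]
  let _ := D.acg
  let _ := D.mod
  have hfin := D.fin
  have : FiniteDimensional (ZMod 2) D.V := Module.Finite.of_finite
  -- conjugation inside Q
  let K : H → Q → Q := fun g x => ⟨g * x * g⁻¹, h.conj_mem x.2 g⟩
  have hL : ∀ g x, D.L g (D.cls x) = D.cls (K g x) := fun g x => D.L_cls g x _ rfl
  have c2 : ∀ c : ZMod 2, c = 0 ∨ c = 1 := by decide
  have ceq : ∀ s t : ZMod 2, (s = 0 ↔ t = 0) → s = t := by decide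
  have hs : ∀ x y, D.ω x y = D.ω y x := by
    intro u v
    obtain ⟨x, rfl⟩ := D.surj u
    obtain ⟨y, rfl⟩ := D.surj v
    apply ceq
    rw [D.ω_cls, D.ω_cls]
    exact eq_comm
  have hnd : D.ω.Nondegenerate := by
    have key : ∀ u, (∀ v, D.ω u v = 0) → u = 0 := by
      intro u hu
      obtain ⟨x, rfl⟩ := D.surj u
      have h1 := h.nd x x.2 (fun y hy => by
        have := hu (D.cls ⟨y, hy⟩)
        rwa [D.ω_cls] at this)
      have h0 : D.cls 1 = 0 := by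
        have := D.cls_mul 1 1
        rw [mul_one] at this
        have h2 : D.cls 1 + 0 = D.cls 1 + D.cls 1 := by rw [add_zero]; exact this
        exact (add_left_cancel h2).symm
      rw [← h0, eq_comm, D.cls_eq]
      simpa using h1
    refine ⟨key, fun v hv => key v (fun u => by rw [hs]; exact hv u)⟩
  have hiso : ∀ g x y, D.ω (D.L g x) (D.L g y) = D.ω x y := by
    intro g u v
    obtain ⟨x, rfl⟩ := D.surj u
    obtain ⟨y, rfl⟩ := D.surj v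
    apply ceq
    rw [hL, hL, D.ω_cls, D.ω_cls]
    constructor
    · intro e'
      have e'' : g * ((x : H) * y) * g⁻¹ = g * (y * x) * g⁻¹ := by
        calc g * ((x : H) * y) * g⁻¹ = (K g x : H) * (K g y : H) := by
              show _ = (g * x * g⁻¹) * (g * y * g⁻¹); group
          _ = (K g y : H) * (K g x : H) := e'
          _ = _ := by show (g * y * g⁻¹) * (g * x * g⁻¹) = _; group
      exact mul_left_cancel (mul_right_cancel e'')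
    · intro e'
      show (g * x * g⁻¹) * (g * y * g⁻¹) = (g * y * g⁻¹) * (g * x * g⁻¹)
      calc (g * (x : H) * g⁻¹) * (g * y * g⁻¹) = g * (x * y) * g⁻¹ := by group
        _ = g * (y * x) * g⁻¹ := by rw [e']
        _ = _ := by group
  have hLm : ∀ g k l, (∀ x : H, g * (k * x * k⁻¹) * g⁻¹ = l * x * l⁻¹) →
      ∀ v, D.L g (D.L k v) = D.L l v := by
    intro g k l hk v
    obtain ⟨x, rfl⟩ := D.surj v
    rw [hL, hL, hL]
    congr 1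
    exact Subtype.ext (hk x)
  have hsum : ∀ r₁ r₂ : Q, ∀ h' : Φ r₁ r₂ ∈ Q,
      D.cls ⟨Φ r₁ r₂, h'⟩ = D.cls r₁ + D.L g (D.cls r₁)
        + (D.L a₁ (D.cls r₂) + D.L c₁ (D.cls r₂)) := by
    intro r₁ r₂ h'
    have hinv : ∀ x : Q, D.cls x⁻¹ = D.cls x := by
      intro x
      rw [D.cls_eq]
      rcases h.pow x x.2 with e' | e'
      · left
        exact (inv_eq_of_mul_eq_one_right e').symm
      · right
        have : (x : H)⁻¹ * x * x = (x : H)⁻¹ * ζ := by rw [mul_assoc, e']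
        simpa using this
    have e1 : (⟨Φ r₁ r₂, h'⟩ : Q) = r₁ * K a₁ r₂ * (K g r₁)⁻¹ * (K c₁ r₂)⁻¹ := Subtype.ext rfl
    rw [e1, D.cls_mul, D.cls_mul, D.cls_mul, hinv, hinv, hL, hL, hL]
    abel
  have hmem : ∀ r₁ r₂ : Q, Φ r₁ r₂ ∈ Q := by
    intro r₁ r₂
    exact (r₁ * K a₁ r₂ * (K g r₁)⁻¹ * (K c₁ r₂)⁻¹).2
  have hone : ∀ r₁ r₂ : Q, (r₁ : H) * ρ = ρ * r₁ → (r₂ : H) * ρ = ρ * r₂ →
      D.cls r₁ + D.L g (D.cls r₁)
        + (D.L a₁ (D.cls r₂) + D.L c₁ (D.cls r₂)) = 0 → Φ r₁ r₂ = 1 := by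
    intro r₁ r₂ s₁ s₂ h0
    apply hΦ1 r₁ r₂ s₁ s₂
    rw [← hsum r₁ r₂ (hmem r₁ r₂)] at h0
    have h00 : D.cls 1 = 0 := by
      have := D.cls_mul 1 1
      rw [mul_one] at this
      have h2 : D.cls 1 + 0 = D.cls 1 + D.cls 1 := by rw [add_zero]; exact this
      exact (add_left_cancel h2).symm
    rw [← h00, eq_comm, D.cls_eq] at h0
    simpa using h0
  have hρω : ∀ x : Q, D.ω (D.cls ⟨ρ, hρ⟩) (D.cls x) = 0 ↔ (x : H) * ρ = ρ * x := by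
    intro x
    rw [D.ω_cls]
    exact eq_comm
  have hρL : ∀ k : H, k * ρ = ρ * k → D.L k (D.cls ⟨ρ, hρ⟩) = D.cls ⟨ρ, hρ⟩ := by
    intro k hk
    rw [hL]
    congr 1
    apply Subtype.ext
    show k * ρ * k⁻¹ = ρ
    rw [hk, mul_inv_cancel_right]
  have h00 : D.cls 1 = 0 := by
    have := D.cls_mul 1 1
    rw [mul_one] at this
    have h2 : D.cls 1 + 0 = D.cls 1 + D.cls 1 := by rw [add_zero]; exact this
    exact (add_left_cancel h2).symm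
  have hγ := rank_lemma2 D.ω hnd hs (D.L a₁) (D.L b₁) (D.L g) (D.L c₁) (hiso a₁) (hiso g) (hiso c₁)
    (fun x => (hLm g a₁ (a₁ * b₁) (fun x => by rw [hg]; group) x).trans
      (hLm a₁ b₁ (a₁ * b₁) (fun x => by group) x).symm)
    (fun x => hLm c₁ b₁ g (fun x => by rw [hc₁, hg]; group) x)
    (ρ := D.cls ⟨ρ, hρ⟩)
    (by
      rw [← h00]
      intro h1
      rw [eq_comm, D.cls_eq] at h1
      rcases h1 with h1 | h1
      · exact hρ1 h1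
      · exact hρz (by simpa using h1))
    ((hρω ⟨ρ, hρ⟩).2 rfl) (hρL a₁ a₁ρ) (hρL b₁ b₁ρ) (hρL g gρ) (hρL c₁ c₁ρ)
    (by
      intro w hwρ
      obtain ⟨y, rfl⟩ := D.surj w
      obtain ⟨q₁, h₁, s₁, q₂, h₂, s₂, ξ, hξ, e'⟩ := step_mod_r h (a := a₁) (b := b₁) (c := y * c₁)
        a₁ρ b₁ρ (cm ((hρω y).1 hwρ) c₁ρ) hfp'
        (by rw [← hc₁, mul_assoc, mul_inv_cancel, mul_one]; exact y.2)
      refine ⟨D.cls ⟨q₁, h₁⟩, D.cls ⟨q₂, h₂⟩, (hρω ⟨q₁, h₁⟩).2 s₁, (hρω ⟨q₂, h₂⟩).2 s₂, ?_⟩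
      rw [← hsum ⟨q₁, h₁⟩ ⟨q₂, h₂⟩ (hmem _ _)]
      have e'' : Φ ⟨q₁, h₁⟩ ⟨q₂, h₂⟩ * c₁ = y * ξ * c₁ := by
        rw [← hΦ]
        show q₁ * a₁ * (q₂ * b₁) * (q₁ * a₁)⁻¹ * (q₂ * b₁)⁻¹ = _
        rw [← e', mul_assoc, mul_assoc, h.zc hξ c₁]
      have e3 : Φ ⟨q₁, h₁⟩ ⟨q₂, h₂⟩ = y * ξ := mul_right_cancel e''
      rw [eq_comm, D.cls_eq]
      show Φ ⟨q₁, h₁⟩ ⟨q₂, h₂⟩ = y ∨ Φ ⟨q₁, h₁⟩ ⟨q₂, h₂⟩ = y * ζ
      rw [e3]
      rcases hξ with rfl | rfl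
      · left; simp
      · right; rfl)
    (by
      intro u₁ u₂ v₁ v₂ su₁ su₂ sv₁ sv₂ hu hv
      obtain ⟨r₁, rfl⟩ := D.surj u₁
      obtain ⟨r₂, rfl⟩ := D.surj u₂
      obtain ⟨q₁, rfl⟩ := D.surj v₁
      obtain ⟨q₂, rfl⟩ := D.surj v₂
      rw [hρω] at su₁ su₂ sv₁ sv₂
      have o1 := hone r₁ r₂ su₁ su₂ hu
      have o2 := hone q₁ q₂ sv₁ sv₂ hv
      have o3 : Φ (q₁ * r₁) (q₂ * r₂) = 1 := by
        apply hone (q₁ * r₁) (q₂ * r₂) (cm sv₁ su₁) (cm sv₂ su₂)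
        rw [D.cls_mul, D.cls_mul]
        simp only [map_add]
        have : (D.cls q₁ + D.cls r₁) + (D.L g (D.cls q₁) + D.L g (D.cls r₁))
            + (D.L a₁ (D.cls q₂) + D.L a₁ (D.cls r₂) + (D.L c₁ (D.cls q₂) + D.L c₁ (D.cls r₂)))
            = (D.cls q₁ + D.L g (D.cls q₁) + (D.L a₁ (D.cls q₂) + D.L c₁ (D.cls q₂)))
            + (D.cls r₁ + D.L g (D.cls r₁) + (D.L a₁ (D.cls r₂) + D.L c₁ (D.cls r₂))) := by abel
        rw [this, hu, hv, add_zero]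
      -- x = q, y = r
      obtain ⟨x₁, hx₁⟩ : ∃ t, t = (q₁ : H) := ⟨_, rfl⟩
      obtain ⟨x₂, hx₂⟩ : ∃ t, t = a₁ * (q₂ : H) * a₁⁻¹ := ⟨_, rfl⟩
      obtain ⟨x₃, hx₃⟩ : ∃ t, t = g * (q₁ : H) * g⁻¹ := ⟨_, rfl⟩
      obtain ⟨x₄, hx₄⟩ : ∃ t, t = c₁ * (q₂ : H) * c₁⁻¹ := ⟨_, rfl⟩
      obtain ⟨y₁, hy₁⟩ : ∃ t, t = (r₁ : H) := ⟨_, rfl⟩
      obtain ⟨y₂, hy₂⟩ : ∃ t, t = a₁ * (r₂ : H) * a₁⁻¹ := ⟨_, rfl⟩
      obtain ⟨y₃, hy₃⟩ : ∃ t, t = g * (r₁ : H) * g⁻¹ := ⟨_, rfl⟩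
      obtain ⟨y₄, hy₄⟩ : ∃ t, t = c₁ * (r₂ : H) * c₁⁻¹ := ⟨_, rfl⟩
      have p1 : y₁ * y₂ = y₄ * y₃ := by
        have : y₁ * y₂ * y₃⁻¹ * y₄⁻¹ = 1 := by rw [hy₁, hy₂, hy₃, hy₄]; exact o1
        calc y₁ * y₂ = (y₁ * y₂ * y₃⁻¹ * y₄⁻¹) * y₄ * y₃ := by group
          _ = _ := by rw [this, one_mul]
      have p2 : x₁ * x₂ = x₄ * x₃ := by
        have : x₁ * x₂ * x₃⁻¹ * x₄⁻¹ = 1 := by rw [hx₁, hx₂, hx₃, hx₄]; exact o2
        calc x₁ * x₂ = (x₁ * x₂ * x₃⁻¹ * x₄⁻¹) * x₄ * x₃ := by group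
          _ = _ := by rw [this, one_mul]
      have p3 : x₁ * y₁ * (x₂ * y₂) = (x₄ * y₄) * (x₃ * y₃) := by
        have : x₁ * y₁ * (x₂ * y₂) * (x₃ * y₃)⁻¹ * (x₄ * y₄)⁻¹ = 1 := by
          have o4 : ((q₁ * r₁ : Q) : H) * (a₁ * ((q₂ * r₂ : Q) : H) * a₁⁻¹)
            * (g * ((q₁ * r₁ : Q) : H) * g⁻¹)⁻¹ * (c₁ * ((q₂ * r₂ : Q) : H) * c₁⁻¹)⁻¹ = 1 := o3
          rw [Subgroup.coe_mul, Subgroup.coe_mul] at o4
          rw [hx₁, hx₂, hx₃, hx₄, hy₁, hy₂, hy₃, hy₄, ← o4]; group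
        calc x₁ * y₁ * (x₂ * y₂)
            = (x₁ * y₁ * (x₂ * y₂) * (x₃ * y₃)⁻¹ * (x₄ * y₄)⁻¹) * (x₄ * y₄) * (x₃ * y₃) := by group
          _ = _ := by rw [this, one_mul]
      have m1 : y₁ ∈ Q := by rw [hy₁]; exact r₁.2
      have m2 : x₂ ∈ Q := by rw [hx₂]; exact h.conj_mem q₂.2 a₁
      have m3 : y₄ ∈ Q := by rw [hy₄]; exact h.conj_mem r₂.2 c₁
      have m4 : x₃ ∈ Q := by rw [hx₃]; exact h.conj_mem q₁.2 g
      -- y₁ x₂ vs y₄ x₃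
      have cc : (y₁ * x₂ = x₂ * y₁) ↔ (y₄ * x₃ = x₃ * y₄) := by
        constructor
        · intro e1
          have : x₁ * (y₁ * x₂) * y₂ = x₄ * (y₄ * x₃) * y₃ := by
            calc x₁ * (y₁ * x₂) * y₂ = x₁ * y₁ * (x₂ * y₂) := by group
              _ = (x₄ * y₄) * (x₃ * y₃) := p3
              _ = _ := by group
          have e2 : x₄ * (y₄ * x₃) * y₃ = x₄ * (x₃ * y₄) * y₃ := by
            rw [← this, e1]
            calc x₁ * (x₂ * y₁) * y₂ = (x₁ * x₂) * (y₁ * y₂) := by group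
              _ = (x₄ * x₃) * (y₄ * y₃) := by rw [p1, p2]
              _ = _ := by group
          exact mul_left_cancel (mul_right_cancel e2)
        · intro e1
          have : x₁ * (y₁ * x₂) * y₂ = x₄ * (y₄ * x₃) * y₃ := by
            calc x₁ * (y₁ * x₂) * y₂ = x₁ * y₁ * (x₂ * y₂) := by group
              _ = (x₄ * y₄) * (x₃ * y₃) := p3
              _ = _ := by group
          have e2 : x₁ * (y₁ * x₂) * y₂ = x₁ * (x₂ * y₁) * y₂ := by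
            rw [this, e1]
            calc x₄ * (x₃ * y₄) * y₃ = (x₄ * x₃) * (y₄ * y₃) := by group
              _ = (x₁ * x₂) * (y₁ * y₂) := by rw [p1, p2]
              _ = _ := by group
          exact mul_left_cancel (mul_right_cancel e2)
      have e5 : D.ω (D.cls r₁) (D.L a₁ (D.cls q₂)) = D.ω (D.L g (D.cls q₁)) (D.L c₁ (D.cls r₂)) := by
        apply ceq
        rw [hL, hL, hL, D.ω_cls, D.ω_cls]
        have t1 : ((K a₁ q₂ : Q) : H) = x₂ := hx₂.symm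
        have t2 : ((K g q₁ : Q) : H) = x₃ := hx₃.symm
        have t3 : ((K c₁ r₂ : Q) : H) = y₄ := hy₄.symm
        rw [t1, t2, t3, ← hy₁, cc]
        exact eq_comm
      rw [e5]
      rcases c2 (D.ω (D.L g (D.cls q₁)) (D.L c₁ (D.cls r₂))) with h0 | h0
      · rw [h0]; rfl
      · rw [h0]; rfl)
  -- conclusion
  have hLc : D.L c₁ = D.L c := by
    apply LinearEquiv.ext
    intro v
    obtain ⟨x, rfl⟩ := D.surj v
    rw [hL, hL]
    congr 1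
    apply Subtype.ext
    show c₁ * x * c₁⁻¹ = c * x * c⁻¹
    rw [← e]
    calc c * ζ * x * (c * ζ)⁻¹ = c * (ζ * x * ζ⁻¹) * c⁻¹ := by group
      _ = c * x * c⁻¹ := by rw [← h.central x]; group
  rw [hLc] at hγ
  have hact' : finrank (ZMod 2) (LinearMap.ker ((D.L c).toLinearMap - LinearMap.id)) + 3 ≤
        finrank (ZMod 2) D.V := hact
  omega

end

end Cfsg.Agent.H658.TwoB
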